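import Cfsg.Agent.Lib.SelfNorm.Main
import Cfsg.Agent.Lib.SuzukiAbelian.SLTwoChar2
import Cfsg.Agent.Lib.PSLTwo.Sylow
import Cfsg.Agent.Lib.Linear.Order
import Cfsg.Agent.Lib.Induced.CNTheorem
import Cfsg.Agent.S2202

/-!
# `SL(2, 2^n)` with `2^n - 1` prime: non-abelian subgroups are self-normalising, and conversely
-/

set_option autoImplicit false
set_option linter.unusedSectionVars false

namespace Cfsg.Agent.Lib.SelfNorm.SLTwo

open Subgroup Cfsg.Agent.Lib.SelfNorm.Basic
open Cfsg.Agent.Lib.PSLTwo.Sylow (mk2 slExt det_eq mul_apply' NonScalar commute_param commute_of_commute)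

variable {F : Type} [Field F] [CharP F 2]

local notation "SL" => Matrix.SpecialLinearGroup (Fin 2) F

theorem comm_centralizer {x : SL} (hx : x ≠ 1) : CommSub (centralizer ({x} : Set SL)) :=
  fun _ ha _ hb => commute_of_commute (SuzukiAbelian.nonScalar_of_ne_one hx)
    (mem_centralizer_singleton_iff.1 ha) (mem_centralizer_singleton_iff.1 hb)

theorem centralizer_eq {x y : SL} (hx : x ≠ 1) (hy1 : y ≠ 1) (hy : y ∈ centralizer ({x} : Set SL)) :
    centralizer ({y} : Set SL) = centralizer ({x} : Set SL) := by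
  have hxy : x ∈ centralizer ({y} : Set SL) :=
    mem_centralizer_singleton_iff.2 (mem_centralizer_singleton_iff.1 hy).symm
  ext z
  exact ⟨fun hz => mem_centralizer_singleton_iff.2 (comm_centralizer hy1 z hz x hxy),
    fun hz => mem_centralizer_singleton_iff.2 (comm_centralizer hx z hz y hy)⟩

theorem mul_self_of_trace {x : SL} (ht : x.1 0 0 + x.1 1 1 = 0) : x * x = 1 := by
  have h2 : (2 : F) = 0 := CharTwo.two_eq_zero
  have hd := det_eq x
  apply slExt <;> simp [mul_apply']
  · linear_combination (x.1 0 0) * ht - hd - h2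
  · linear_combination (x.1 0 1) * ht
  · linear_combination (x.1 1 0) * ht
  · linear_combination (x.1 1 1) * ht - hd - h2

theorem trace_ne_zero {x : SL} (hx2 : x * x ≠ 1) : x.1 0 0 + x.1 1 1 ≠ 0 :=
  fun ht => hx2 (mul_self_of_trace ht)

/-- An element commuting with a semisimple `x` and of the same trace is `x` or `x⁻¹`. -/
theorem eq_or_eq_inv {x y : SL} (hx2 : x * x ≠ 1) (hxy : y * x = x * y)
    (ht : y.1 0 0 + y.1 1 1 = x.1 0 0 + x.1 1 1) : y = x ∨ y = x⁻¹ := by
  have hx1 : x ≠ 1 := fun e => hx2 (by rw [e, one_mul])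
  have h2 : (2 : F) = 0 := CharTwo.two_eq_zero
  obtain ⟨c, h01, h10, hd⟩ := commute_param (SuzukiAbelian.nonScalar_of_ne_one hx1) hxy
  have hc : c = 1 := by
    have h : (c - 1) * (x.1 0 0 + x.1 1 1) = 0 := by
      linear_combination ht - hd + (c * x.1 1 1 - y.1 1 1) * h2
    exact sub_eq_zero.1 ((mul_eq_zero.1 h).resolve_right (trace_ne_zero hx2))
  subst hc
  rw [one_mul] at h01 h10
  have hprod : (y.1 0 0 - x.1 0 0) * (y.1 0 0 - x.1 1 1) = 0 := by
    have e1 := det_eq x
    have e2 := det_eq y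
    rw [h01, h10] at e2
    linear_combination (y.1 0 0) * ht + e1 - e2
  have inv_eq : x⁻¹.1 = !![x.1 1 1, -x.1 0 1; -x.1 1 0, x.1 0 0] :=
    Cfsg.Agent.Lib.PSLTwo.Sylow.inv_apply' x
  rcases mul_eq_zero.1 hprod with h | h
  · left
    refine slExt (sub_eq_zero.1 h) h01 h10 ?_
    linear_combination ht - h
  · right
    refine slExt ?_ ?_ ?_ ?_ <;> rw [inv_eq] <;> simp [CharTwo.neg_eq]
    · linear_combination h
    · exact h01
    · exact h10
    · linear_combination ht - h

theorem trace_conj (g x : SL) :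
    (g * x * g⁻¹).1 0 0 + (g * x * g⁻¹).1 1 1 = x.1 0 0 + x.1 1 1 :=
  Cfsg.Agent.Lib.PSLTwo.Sylow.slTr_conj x g

/-- An element normalising the centraliser of a semisimple element centralises it or inverts it. -/
theorem inverts {x : SL} (hx2 : x * x ≠ 1) {g : SL}
    (hg : g ∈ normalizer (centralizer ({x} : Set SL) : Set SL)) :
    g ∈ centralizer ({x} : Set SL) ∨ ∀ a ∈ centralizer ({x} : Set SL), g * a * g⁻¹ = a⁻¹ := by
  have hx1 : x ≠ 1 := fun e => hx2 (by rw [e, one_mul])
  by_cases hgA : g ∈ centralizer ({x} : Set SL)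
  · exact Or.inl hgA
  refine Or.inr fun a ha => ?_
  by_cases ha1 : a = 1
  · simp [ha1]
  have ha2 : a * a ≠ 1 := fun ha2 => by
    obtain ⟨c, h01, h10, hd⟩ := commute_param (SuzukiAbelian.nonScalar_of_ne_one hx1)
      (mem_centralizer_singleton_iff.1 ha)
    have h2 : (2 : F) = 0 := CharTwo.two_eq_zero
    have h00 : (a * a).1 0 0 = 1 := by rw [ha2]; simp
    have h11 : (a * a).1 1 1 = 1 := by rw [ha2]; simp
    rw [mul_apply'] at h00 h11
    have hsum : (a.1 0 0 + a.1 1 1) * (a.1 0 0 + a.1 1 1) = 0 := by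
      linear_combination h00 + h11 + (a.1 0 0 * a.1 1 1 - a.1 0 1 * a.1 1 0 + 1) * h2
    rw [mul_self_eq_zero] at hsum
    have hc : c * (x.1 0 0 + x.1 1 1) = 0 := by
      linear_combination hsum - hd + (c * x.1 1 1 - a.1 1 1) * h2
    have hc0 : c = 0 := (mul_eq_zero.1 hc).resolve_right (trace_ne_zero hx2)
    subst hc0
    rw [zero_mul] at h01 h10 hd
    exact (SuzukiAbelian.nonScalar_of_ne_one ha1).elim (fun h => h h01)
      (fun h => h.elim (fun h => h h10) (fun h => h (sub_eq_zero.1 hd)))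
  have hA := centralizer_eq hx1 ha1 ha
  have hga : g * a * g⁻¹ ∈ centralizer ({a} : Set SL) := hA.symm ▸ (mem_normalizer_iff.1 hg a).1 ha
  rcases eq_or_eq_inv ha2 (mem_centralizer_singleton_iff.1 hga) (trace_conj g a) with e | e
  · exact absurd (hA ▸ mem_centralizer_singleton_iff.2 (mul_inv_eq_iff_eq_mul.1 e)) hgA
  · exact e

/-- Upper triangular elements whose corner has `s`-th power one. -/
def borelPow (s : ℕ) : Subgroup SL where
  carrier := {g | g.1 1 0 = 0 ∧ (g.1 0 0) ^ s = 1}
  one_mem' := ⟨by simp, by simp⟩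
  mul_mem' := fun {a b} ⟨ha, ha'⟩ ⟨hb, hb'⟩ =>
    ⟨by rw [mul_apply', ha, hb, zero_mul, mul_zero, add_zero],
      by rw [mul_apply', hb, mul_zero, add_zero, mul_pow, ha', hb', one_mul]⟩
  inv_mem' := fun {a} ⟨ha, ha'⟩ => by
    have hd := det_eq a
    rw [ha, mul_zero, sub_zero] at hd
    refine ⟨by rw [Cfsg.Agent.Lib.PSLTwo.Sylow.inv_apply']; simp [ha], ?_⟩
    rw [Cfsg.Agent.Lib.PSLTwo.Sylow.inv_apply']
    have : (a.1 0 0 * a.1 1 1) ^ s = 1 := by rw [hd, one_pow]
    rw [mul_pow, ha', one_mul] at this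
    simpa using this

theorem mem_borelPow {s : ℕ} {g : SL} : g ∈ borelPow s ↔ g.1 1 0 = 0 ∧ (g.1 0 0) ^ s = 1 :=
  Iff.rfl

/-- The unipotent element with corner `c`. -/
def uni (c : F) : SL := mk2 1 c 0 1 (by ring)

theorem conj_uni (g : SL) (c : F) :
    (g * uni c * g⁻¹).1 1 0 = -(c * g.1 1 0 * g.1 1 0) := by
  rw [mul_apply', Cfsg.Agent.Lib.PSLTwo.Sylow.inv_apply']
  simp [mul_apply', uni]
  ring

theorem centralizer_uni {c : F} (hc : c ≠ 0) {g : SL} :
    g ∈ centralizer ({uni c} : Set SL) → g.1 1 0 = 0 ∧ g.1 0 0 = 1 := by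
  intro hg
  have h := mem_centralizer_singleton_iff.1 hg
  have e1 := congrArg (fun m : SL => m.1 0 1) h
  have e0 := congrArg (fun m : SL => m.1 0 0) h
  simp [mul_apply', uni, hc] at e1 e0
  have h10 : g.1 1 0 = 0 := e0
  have hd := det_eq g
  rw [h10, mul_zero, sub_zero] at hd
  have heq : g.1 0 0 = g.1 1 1 := by
    have : c * (g.1 0 0 - g.1 1 1) = 0 := by linear_combination e1
    exact sub_eq_zero.1 ((mul_eq_zero.1 this).resolve_left hc)
  refine ⟨h10, ?_⟩
  rw [← heq] at hd
  have : (g.1 0 0 + 1) * (g.1 0 0 + 1) = 0 := by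
    linear_combination hd + (g.1 0 0 + 1) * (CharTwo.two_eq_zero : (2 : F) = 0)
  rwa [mul_self_eq_zero, add_eq_zero_iff_eq_neg, CharTwo.neg_eq] at this

theorem normalizer_uni_le [Fintype F] {c : F} (hc : c ≠ 0) :
    normalizer (centralizer ({uni c} : Set SL) : Set SL) ≤ borelPow (Fintype.card F - 1) := by
  intro g hg
  have hmem : g * uni c * g⁻¹ ∈ centralizer ({uni c} : Set SL) :=
    (mem_normalizer_iff.1 hg _).1 (mem_centralizer_singleton_iff.2 rfl)
  have h := (centralizer_uni hc hmem).1
  rw [conj_uni, neg_eq_zero] at h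
  have h10 : g.1 1 0 = 0 := by
    rcases mul_eq_zero.1 h with h | h
    · exact (mul_eq_zero.1 h).resolve_left hc
    · exact h
  refine ⟨h10, ?_⟩
  have hd := det_eq g
  rw [h10, mul_zero, sub_zero] at hd
  exact FiniteField.pow_card_sub_one_eq_one _ fun e => by rw [e, zero_mul] at hd; exact zero_ne_one hd

/-- Every involution is conjugate to a unipotent upper triangular element. -/
theorem exists_conj_uni {x : SL} (hx1 : x ≠ 1) (hx2 : x * x = 1) :
    ∃ (g : SL) (c : F), c ≠ 0 ∧ g * x * g⁻¹ = uni c := by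
  have h2 : (2 : F) = 0 := CharTwo.two_eq_zero
  have hd := det_eq x
  have e00 : (x * x).1 0 0 = 1 := by rw [hx2]; simp
  have e11 : (x * x).1 1 1 = 1 := by rw [hx2]; simp
  rw [mul_apply'] at e00 e11
  have hd' : x.1 0 0 + x.1 1 1 = 0 := by
    have : (x.1 0 0 + x.1 1 1) * (x.1 0 0 + x.1 1 1) = 0 := by
      linear_combination e00 + e11 + (x.1 0 0 * x.1 1 1 - x.1 0 1 * x.1 1 0 + 1) * h2
    rwa [mul_self_eq_zero] at this
  by_cases h10 : x.1 1 0 = 0
  · refine ⟨1, x.1 0 1, ?_, ?_⟩
    · intro h01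
      exact (SuzukiAbelian.nonScalar_of_ne_one hx1).elim (fun h => h h01)
        (fun h => h.elim (fun h => h h10) (fun h => h (by linear_combination hd' - x.1 1 1 * h2)))
    · rw [one_mul, inv_one, mul_one]
      rw [h10, mul_zero, sub_zero] at hd
      have hsq : (x.1 0 0 + 1) * (x.1 0 0 + 1) = 0 := by
        linear_combination -hd + x.1 0 0 * hd' + x.1 0 0 * h2
      rw [mul_self_eq_zero, add_eq_zero_iff_eq_neg, CharTwo.neg_eq] at hsq
      refine slExt ?_ ?_ ?_ ?_ <;> simp [uni, h10, hsq]
      linear_combination hd' - hsq - h2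
  · -- move the fixed vector to the first coordinate
    obtain ⟨v, hv⟩ : ∃ v : F, x.1 1 0 * v = x.1 0 0 + 1 :=
      ⟨(x.1 0 0 + 1) / x.1 1 0, mul_div_cancel₀ _ h10⟩
    refine ⟨mk2 0 1 1 v (by linear_combination -h2 + (0 : F) * h2), x.1 1 0, h10, ?_⟩
    rw [mul_inv_eq_iff_eq_mul]
    refine slExt ?_ ?_ ?_ ?_ <;> simp [mul_apply', uni]
    · linear_combination hd' - hv - (x.1 0 0 + 1) * h2
    · linear_combination hv + x.1 0 0 * h2
    · refine mul_left_cancel₀ h10 ?_
      linear_combination (x.1 1 1 - 1) * hv - hd + (2 * x.1 0 0 + 1) * hd' -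
        (x.1 0 0 ^ 2 + x.1 0 0 + 1) * h2

section Finite

variable [Fintype F]

theorem borel_le_of_noncomm (hq : (Fintype.card F - 1).Prime) {H : Subgroup SL}
    (hle : H ≤ borelPow (Fintype.card F - 1)) (hH : ¬ CommSub H) :
    borelPow (Fintype.card F - 1) ≤ H := by
  classical
  set s := Fintype.card F - 1 with hs
  have hpow : ∀ a : F, a ≠ 0 → a ^ s = 1 := fun a ha => FiniteField.pow_card_sub_one_eq_one a ha
  have hU : ∀ g : SL, g ∈ borelPow s → g.1 0 0 = 1 → g = uni (g.1 0 1) := fun g hg h => by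
    have hd := det_eq g
    rw [hg.1, h, mul_zero, sub_zero, one_mul] at hd
    refine slExt ?_ ?_ ?_ ?_ <;> simp [uni, hg.1, h, hd]
  have humul : ∀ a b : F, uni a * uni b = uni (a + b) := fun a b => by
    refine slExt ?_ ?_ ?_ ?_ <;> simp [uni, mul_apply']
    ring
  obtain ⟨h, hh, hh1⟩ : ∃ h ∈ H, h.1 0 0 ≠ 1 := by
    by_contra hc
    push Not at hc
    refine hH fun a ha b hb => ?_
    rw [hU a (hle ha) (hc a ha), hU b (hle hb) (hc b hb), humul, humul, add_comm]
  obtain ⟨a, ha, b, hb, hab⟩ : ∃ a ∈ H, ∃ b ∈ H, a * b ≠ b * a := by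
    by_contra hc
    push Not at hc
    exact hH hc
  have h0 : ∀ g : SL, g ∈ borelPow s → g.1 0 0 * g.1 1 1 = 1 := fun g hg => by
    have hd := det_eq g
    rwa [hg.1, mul_zero, sub_zero] at hd
  set w := a * b * (b * a)⁻¹ with hw
  have hwH : w ∈ H := mul_mem (mul_mem ha hb) (inv_mem (mul_mem hb ha))
  have hw00 : w.1 0 0 = 1 := by
    have e : (w * (b * a)).1 0 0 = (a * b).1 0 0 := by rw [hw, inv_mul_cancel_right]
    rw [mul_apply', (hle (mul_mem hb ha)).1, mul_zero, add_zero, mul_apply' b a, (hle ha).1,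
      mul_zero, add_zero, mul_apply' a b, (hle hb).1, mul_zero, add_zero] at e
    have hne : b.1 0 0 * a.1 0 0 ≠ 0 := mul_ne_zero
      (fun e => by simpa [e] using h0 b (hle hb)) (fun e => by simpa [e] using h0 a (hle ha))
    exact mul_right_cancel₀ hne (by linear_combination e)
  have hwne : w.1 0 1 ≠ 0 := fun e => hab (by
    have := hU w (hle hwH) hw00
    rw [e] at this
    have h1 : uni (0 : F) = (1 : SL) := by refine slExt ?_ ?_ ?_ ?_ <;> simp [uni]
    rwa [h1, hw, mul_inv_eq_one] at this)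
  set α := h.1 0 0 with hα
  have hα0 : α ≠ 0 := fun e => by
    have := h0 h (hle hh)
    rw [← hα, e, zero_mul] at this
    exact zero_ne_one this
  have hconj : ∀ c : F, h * uni c * h⁻¹ = uni (α * α * c) := fun c => by
    rw [mul_inv_eq_iff_eq_mul]
    refine slExt ?_ ?_ ?_ ?_ <;> simp [uni, mul_apply', (hle hh).1]
    linear_combination (-(α * c)) * h0 h (hle hh)
  have hα2 : Units.mk0 (α * α) (mul_ne_zero hα0 hα0) ≠ 1 := fun e => by
    have e' : α * α = 1 := congrArg Units.val e
    have : (α + 1) * (α + 1) = 0 := by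
      linear_combination e' + (α + 1) * (CharTwo.two_eq_zero : (2 : F) = 0)
    rw [mul_self_eq_zero, add_eq_zero_iff_eq_neg, CharTwo.neg_eq] at this
    exact hh1 this
  have := Fact.mk hq
  have hgen : ∀ {u : Fˣ}, u ≠ 1 → ∀ v : Fˣ, ∃ i : ℕ, u ^ i = v := fun {u} hu v => by
    have hcard : Nat.card Fˣ = s := by rw [Nat.card_eq_fintype_card, Fintype.card_units]
    have h := mem_powers_of_prime_card (p := s) hcard hu (g' := v)
    obtain ⟨i, hi⟩ := h
    exact ⟨i, hi⟩
  have hall : ∀ c : F, uni c ∈ H := fun c => by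
    by_cases hc : c = 0
    · have h1 : uni c = (1 : SL) := by refine slExt ?_ ?_ ?_ ?_ <;> simp [uni, hc]
      rw [h1]; exact one_mem H
    obtain ⟨i, hi⟩ := hgen hα2 (Units.mk0 (c / w.1 0 1) (div_ne_zero hc hwne))
    have hi' : (α * α) ^ i = c / w.1 0 1 := by simpa using congrArg Units.val hi
    have key : ∀ j : ℕ, uni ((α * α) ^ j * w.1 0 1) ∈ H := fun j => by
      induction j with
      | zero => rw [pow_zero, one_mul, ← hU w (hle hwH) hw00]; exact hwH
      | succ j ih =>
        rw [show (α * α) ^ (j + 1) * w.1 0 1 = α * α * ((α * α) ^ j * w.1 0 1) by ring, ← hconj]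
        exact mul_mem (mul_mem hh ih) (inv_mem hh)
    have := key i
    rwa [hi', div_mul_cancel₀ c hwne] at this
  intro g hg
  have hg0 : g.1 0 0 ≠ 0 := fun e => by
    have := h0 g hg
    rw [e, zero_mul] at this
    exact zero_ne_one this
  obtain ⟨i, hi⟩ := hgen (u := Units.mk0 α hα0) (fun e => hh1 (congrArg Units.val e))
    (Units.mk0 (g.1 0 0) hg0)
  have hi' : α ^ i = g.1 0 0 := by simpa using congrArg Units.val hi
  have hpow00 : ∀ j : ℕ, (h ^ j).1 0 0 = α ^ j := fun j => by
    induction j with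
    | zero => simp
    | succ j ih => rw [pow_succ, mul_apply', ih, (hle hh).1, mul_zero, add_zero, ← hα, pow_succ]
  have hk : g * (h ^ i)⁻¹ ∈ borelPow s :=
    mul_mem hg (inv_mem (pow_mem (hle hh) i))
  have hk00 : (g * (h ^ i)⁻¹).1 0 0 = 1 := by
    have e : (g * (h ^ i)⁻¹ * h ^ i).1 0 0 = g.1 0 0 := by rw [inv_mul_cancel_right]
    rw [mul_apply', (hle (pow_mem hh i)).1, mul_zero, add_zero, hpow00, hi'] at e
    exact mul_right_cancel₀ hg0 (by rw [one_mul]; exact e)
  have : g = g * (h ^ i)⁻¹ * h ^ i := by rw [inv_mul_cancel_right]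
  rw [this, hU _ hk hk00]
  exact mul_mem (hall _) (pow_mem hh i)

theorem derived_normalized (H : Subgroup SL) (k : ℕ) :
    normalizer (H : Set SL) ≤ normalizer (((derivedSeries H k).map H.subtype : Subgroup SL) : Set SL) := by
  refine le_normalizer_of_conj fun g hg x hx => ?_
  induction k generalizing x with
  | zero =>
    rw [derivedSeries_zero, ← MonoidHom.range_eq_map, range_subtype] at hx ⊢
    exact (mem_normalizer_iff.1 hg x).1 hx
  | succ k ih =>
    rw [derivedSeries_succ, map_commutator] at hx ⊢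
    have hle : (((derivedSeries H k).map H.subtype).map (MulAut.conj g).toMonoidHom) ≤
        (derivedSeries H k).map H.subtype := by
      rintro _ ⟨y, hy, rfl⟩; exact ih y hy
    have h1 := mem_map_of_mem (MulAut.conj g).toMonoidHom hx
    rw [map_commutator] at h1
    exact commutator_mono hle hle h1

theorem exists_comm_derived {H : Subgroup SL} [hs : Group.IsSolvable H] (hH : ¬ CommSub H) :
    ∃ K : Subgroup SL, K ≤ H ∧ K ≠ ⊥ ∧ CommSub K ∧ normalizer (H : Set SL) ≤ normalizer (K : Set SL) := by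
  classical
  obtain ⟨n, hn⟩ := hs.solvable
  have hex : ∃ k, derivedSeries H k = ⊥ := ⟨n, hn⟩
  obtain ⟨k, hk⟩ : ∃ k, Nat.find hex = k + 1 := by
    rcases Nat.eq_zero_or_pos (Nat.find hex) with h0 | h0
    · exfalso
      have := Nat.find_spec hex
      rw [h0, derivedSeries_zero] at this
      refine hH fun a ha b hb => ?_
      have ha' : (⟨a, ha⟩ : H) = 1 := mem_bot.1 (this ▸ mem_top _)
      rw [show a = 1 from congrArg Subtype.val ha', one_mul, mul_one]
    · exact ⟨Nat.find hex - 1, by omega⟩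
  refine ⟨(derivedSeries H k).map H.subtype, map_subtype_le _, fun e => ?_, ?_, derived_normalized H k⟩
  · rw [map_eq_bot_iff_of_injective _ (subtype_injective H)] at e
    exact Nat.find_min hex (by omega) e
  · rintro _ ⟨a, ha, rfl⟩ _ ⟨b, hb, rfl⟩
    have h1 := commutator_mem_commutator ha hb
    rw [← derivedSeries_succ, ← hk, Nat.find_spec hex, mem_bot, commutatorElement_eq_one_iff_mul_comm] at h1
    exact congrArg Subtype.val h1

/-- Conjugation transports the hypotheses. -/
theorem comm_map (θ : SL) {H : Subgroup SL} (h : CommSub (H.map (MulAut.conj θ).toMonoidHom)) :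
    CommSub H := fun a ha b hb => (MulAut.conj θ).injective (by
  rw [map_mul, map_mul]
  exact h _ (mem_map_of_mem _ ha) _ (mem_map_of_mem _ hb))

theorem normalizer_solvable (hq : (Fintype.card F - 1).Prime) {H : Subgroup SL} [Group.IsSolvable H]
    (hH : ¬ CommSub H) : normalizer (H : Set SL) ≤ H := by
  obtain ⟨K, hKH, hK1, hKc, hKn⟩ := exists_comm_derived hH
  obtain ⟨k, hkK, hk1⟩ := (bot_or_exists_ne_one K).resolve_left hK1
  set A := centralizer ({k} : Set SL) with hA
  have hLA : normalizer (H : Set SL) ≤ normalizer (A : Set SL) := by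
    refine le_normalizer_of_conj fun l hl a ha => ?_
    have hk' : l * k * l⁻¹ ∈ A :=
      mem_centralizer_singleton_iff.2 (hKc _ ((mem_normalizer_iff.1 (hKn hl) k).1 hkK) k hkK)
    have hne : l * k * l⁻¹ ≠ 1 := by simp [hk1]
    rw [hA, ← centralizer_eq hk1 hne hk', mem_centralizer_singleton_iff]
    have := mem_centralizer_singleton_iff.1 ha
    simp [mul_assoc, ← mul_assoc a k, this]
  by_cases hk2 : k * k = 1
  · obtain ⟨θ, c, hc, hθ⟩ := exists_conj_uni hk1 hk2
    set φ := (MulAut.conj θ).toMonoidHom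
    have hAle : ∀ l ∈ normalizer (A : Set SL), φ l ∈ borelPow (Fintype.card F - 1) := by
      intro l hl
      refine normalizer_uni_le hc (mem_normalizer_iff.2 fun n => ?_)
      have hkey : ∀ m : SL, m ∈ A ↔ φ m ∈ centralizer ({uni c} : Set SL) := fun m => by
        rw [hA, mem_centralizer_singleton_iff, mem_centralizer_singleton_iff, ← hθ,
          show θ * k * θ⁻¹ = φ k from rfl, ← map_mul, ← map_mul]
        exact ((MulAut.conj θ).injective.eq_iff).symm
      obtain ⟨m, rfl⟩ : ∃ m, φ m = n := (MulAut.conj θ).surjective n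
      rw [← map_inv, ← map_mul, ← map_mul, ← hkey, ← hkey]
      exact mem_normalizer_iff.1 hl m
    have hB := borel_le_of_noncomm hq (H := H.map φ)
      (by rintro _ ⟨x, hx, rfl⟩; exact hAle x (hLA (le_normalizer hx)))
      (fun hc' => hH (comm_map θ hc'))
    intro l hl
    obtain ⟨x, hx, hxl⟩ := hB (hAle l (hLA hl))
    rwa [(MulAut.conj θ).injective hxl] at hx
  · obtain ⟨h, hhH, hhA⟩ : ∃ h ∈ H, h ∉ A := by
      by_contra hc
      push Not at hc
      exact hH ((comm_centralizer hk1).mono hc)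
    have hinv := (inverts hk2 (hLA (le_normalizer hhH))).resolve_left hhA
    have hsub : ∀ l ∈ normalizer (H : Set SL), l ∈ A → l ∈ H := by
      intro l hl hlA
      have h1 : l * h * l⁻¹ * h⁻¹ ∈ H :=
        mul_mem ((mem_normalizer_iff.1 hl h).1 hhH) (inv_mem hhH)
      have h2 : h * l⁻¹ * h⁻¹ = l := by rw [hinv _ (inv_mem hlA), inv_inv]
      rw [show l * h * l⁻¹ * h⁻¹ = l * (h * l⁻¹ * h⁻¹) by group, h2] at h1
      rcases Nat.even_or_odd (orderOf l) with hev | hod
      · exfalso
        have := Fact.mk Nat.prime_two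
        set z := l ^ (orderOf l / 2) with hz
        have hzo : orderOf z = 2 :=
          orderOf_pow_orderOf_div (orderOf_pos l).ne' (even_iff_two_dvd.1 hev)
        have hz1 : z ≠ 1 := fun e => by rw [e, orderOf_one] at hzo; omega
        have hzA : z ∈ A := pow_mem hlA _
        have hz2 : z * z = 1 := by rw [← pow_two]; exact orderOf_dvd_iff_pow_eq_one.1 hzo.dvd
        -- an involution cannot be inverted by an element outside its centraliser
        have hhz : h * z = z * h := by
          have := hinv z hzA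
          rw [inv_eq_of_mul_eq_one_right hz2, mul_inv_eq_iff_eq_mul] at this
          exact this
        exact hhA (hA ▸ centralizer_eq hk1 hz1 hzA ▸ mem_centralizer_singleton_iff.2 hhz)
      · obtain ⟨j, hj⟩ := hod
        have : l = (l * l) ^ (j + 1) := by
          rw [← pow_two, ← pow_mul, show 2 * (j + 1) = orderOf l + 1 by omega, pow_succ,
            pow_orderOf_eq_one, one_mul]
        rw [this]
        exact pow_mem h1 _
    intro l hl
    rcases inverts hk2 (hLA hl) with hlA | hlinv
    · exact hsub l hl hlA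
    · have hk' : (h⁻¹ * l) * k * (h⁻¹ * l)⁻¹ = k := by
        rw [show (h⁻¹ * l) * k * (h⁻¹ * l)⁻¹ = h⁻¹ * (l * k * l⁻¹) * h by group,
          hlinv k (mem_centralizer_singleton_iff.2 rfl)]
        have := hinv k (mem_centralizer_singleton_iff.2 rfl)
        rw [← this]; group
      have hmem : h⁻¹ * l ∈ A := mem_centralizer_singleton_iff.2 (mul_inv_eq_iff_eq_mul.1 hk')
      have := hsub _ (mul_mem (inv_mem (le_normalizer hhH)) hl) hmem
      simpa using mul_mem hhH this

theorem isCNGroup_SL : Cfsg.IsCNGroup SL := fun g hg => by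
  have : IsMulCommutative (centralizer ({g} : Set SL)) := (commSub_iff _).1 (comm_centralizer hg)
  have hc : ∀ a b : centralizer ({g} : Set SL), a * b = b * a := this.1.1
  let _ : CommGroup (centralizer ({g} : Set SL)) :=
    { (inferInstance : Group (centralizer ({g} : Set SL))) with mul_comm := hc }
  exact CommGroup.isNilpotent

theorem eq_top_of_nonsolvable (hq : (Fintype.card F - 1).Prime) {H : Subgroup SL}
    (hs : ¬ Group.IsSolvable H) : H = ⊤ := by
  classical
  have hCN := CNGroup.Basic.isCNGroup_subgroup (isCNGroup_SL (F := F)) H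
  have heven : Even (Nat.card H) := by
    by_contra ho
    exact hs (Induced.CNTheorem.isSolvable_of_odd_cn (Nat.not_even_iff_odd.1 ho) hCN)
  rcases Cfsg.Agent.S2202.result heven (fun t ht => (commSub_iff _).1 fun a ha b hb =>
      Subtype.ext (comm_centralizer (x := (t : SL))
        (fun e => by rw [Subtype.ext (a2 := (1 : H)) e, orderOf_one] at ht; omega)
        a (mem_centralizer_singleton_iff.2 (congrArg Subtype.val (mem_centralizer_singleton_iff.1 ha)))
        b (mem_centralizer_singleton_iff.2 (congrArg Subtype.val (mem_centralizer_singleton_iff.1 hb))))) with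
    hcyc | hnorm | hsl
  · exfalso
    obtain ⟨P⟩ := (inferInstance : Nonempty (Sylow 2 H))
    have hmin : (Nat.card H).minFac = 2 := (Nat.minFac_eq_two_iff _).2 (even_iff_two_dvd.1 heven)
    set hle := (hcyc P).normalizer_le_centralizer hmin
    set K := (MonoidHom.transferSylow P hle).ker
    have hK : Odd (Nat.card K) := Nat.not_even_iff_odd.1 fun e =>
      MonoidHom.not_dvd_card_ker_transferSylow P hle (even_iff_two_dvd.1 e)
    have hKs : Group.IsSolvable K := Induced.CNTheorem.isSolvable_of_odd_cn hK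
      (CNGroup.Basic.isCNGroup_subgroup hCN K)
    have := P.2.isNilpotent
    have hPs : Group.IsSolvable (P : Subgroup H) := inferInstance
    exact hs (Group.isSolvable_of_ker_le_range K.subtype (MonoidHom.transferSylow P hle)
      (by rw [range_subtype]))
  · exfalso
    obtain ⟨P⟩ := (inferInstance : Nonempty (Sylow 2 H))
    have hPn : (P : Subgroup H).Normal := hnorm P
    obtain ⟨K, hK⟩ := exists_right_complement'_of_coprime P.card_coprime_index
    have hKo : Odd (Nat.card K) := Nat.not_even_iff_odd.1 fun e => P.not_dvd_index (by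
      rw [hK.symm.index_eq_card]; exact even_iff_two_dvd.1 e)
    have hKs : Group.IsSolvable K := Induced.CNTheorem.isSolvable_of_odd_cn hKo
      (CNGroup.Basic.isCNGroup_subgroup hCN K)
    have := P.2.isNilpotent
    have hPs : Group.IsSolvable (P : Subgroup H) := inferInstance
    have : Group.IsSolvable (↥H ⧸ (P : Subgroup H)) := by
      have := hK.symm.QuotientMulEquiv
      exact Group.isSolvable_of_surjective (f := ((QuotientGroup.mk' (P : Subgroup H)).comp K.subtype))
        (by
          intro q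
          obtain ⟨g, rfl⟩ := QuotientGroup.mk'_surjective (P : Subgroup H) q
          obtain ⟨⟨p', k'⟩, rfl⟩ := hK.2 g
          exact ⟨k', by simp⟩)
    exact hs (Group.isSolvable_of_ker_le_range (P : Subgroup H).subtype (QuotientGroup.mk' (P : Subgroup H))
      (by rw [QuotientGroup.ker_mk', range_subtype]))
  obtain ⟨E, _, _, A, _, _, hchar, -, ⟨e⟩⟩ := hsl
  have hA : Subsingleton A := by
    refine subsingleton_of_forall_eq 1 fun a => ?_
    by_contra ha
    set z : H := e.symm (1, a)
    have hz : (z : SL) ≠ 1 := fun h => ha (congrArg Prod.snd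
      (e.symm.injective (show e.symm (1, a) = e.symm 1 by rw [map_one]; exact Subtype.ext h)))
    refine hs (solvable_of_comm fun x y => Subtype.ext
      (comm_centralizer hz x ?_ y ?_))
    all_goals
      refine mem_centralizer_singleton_iff.2 ?_
      rw [← coe_mul, ← coe_mul]
      refine congrArg Subtype.val (e.injective ?_)
      rw [map_mul, map_mul, MulEquiv.apply_symm_apply]
      exact Prod.ext (by simp) (mul_comm _ _)
  have : Unique A := uniqueOfSubsingleton 1
  let ψ : Matrix.SpecialLinearGroup (Fin 2) E →* SL :=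
    H.subtype.comp (e.trans MulEquiv.prodUnique).symm.toMonoidHom
  have hψ : Function.Injective ψ :=
    (subtype_injective H).comp (e.trans MulEquiv.prodUnique).symm.injective
  have hcardH : Nat.card H = Fintype.card E * (Fintype.card E - 1) * (Fintype.card E + 1) := by
    rw [Nat.card_congr (e.trans MulEquiv.prodUnique).toEquiv, Linear.card_SL_two]
  obtain ⟨ν, hν⟩ := IsCyclic.exists_generator (α := Eˣ)
  let d : Matrix.SpecialLinearGroup (Fin 2) E :=
    mk2 (ν : E) 0 0 ((ν⁻¹ : Eˣ) : E) (by simp)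
  let u : Matrix.SpecialLinearGroup (Fin 2) E := mk2 1 1 0 1 (by ring)
  have hu1 : ψ u ≠ 1 := fun h => by
    have := congrArg (fun m : Matrix.SpecialLinearGroup (Fin 2) E => m.1 0 1) (hψ (h.trans (map_one ψ).symm))
    simp [u] at this
  have hu2 : ψ u * ψ u = 1 := by
    rw [← map_mul, show u * u = 1 by
      refine slExt ?_ ?_ ?_ ?_ <;> simp [u, mul_apply', CharTwo.add_self_eq_zero], map_one]
  have hdu : ψ d * ψ u * (ψ d)⁻¹ ∈ centralizer ({ψ u} : Set SL) := by
    refine mem_centralizer_singleton_iff.2 ?_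
    rw [← map_inv, ← map_mul, ← map_mul, ← map_mul, ← map_mul]
    congr 1
    refine slExt ?_ ?_ ?_ ?_ <;>
      simp [u, d, mul_apply', Cfsg.Agent.Lib.PSLTwo.Sylow.inv_apply', Matrix.adjugate_fin_two, add_comm]
  obtain ⟨θ, c, hc, hθ⟩ := exists_conj_uni hu1 hu2
  set φ := (MulAut.conj θ).toMonoidHom
  have hdB : φ (ψ d) ∈ borelPow (Fintype.card F - 1) := by
    refine normalizer_uni_le hc ?_
    have hd' : φ (ψ d) * uni c * (φ (ψ d))⁻¹ ∈ centralizer ({uni c} : Set SL) := by
      rw [← hθ, show θ * ψ u * θ⁻¹ = φ (ψ u) from rfl]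
      refine mem_centralizer_singleton_iff.2 ?_
      have := congrArg φ (mem_centralizer_singleton_iff.1 hdu)
      simp only [MonoidHom.map_mul, MonoidHom.map_inv] at this
      exact this
    have hne1 : uni c ≠ (1 : SL) := fun h => hc (by
      simpa [uni] using congrArg (fun m : SL => m.1 0 1) h)
    refine le_normalizer_of_conj (X := zpowers (φ (ψ d))) ?_ (mem_zpowers _)
    intro x hx a ha
    have hxN : x * uni c * x⁻¹ ∈ centralizer ({uni c} : Set SL) := by
      obtain ⟨i, rfl⟩ := mem_powers_iff_mem_zpowers.2 hx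
      clear hx
      beta_reduce
      induction i with
      | zero => simpa using mem_centralizer_singleton_iff.2 (rfl : uni c * uni c = uni c * uni c)
      | succ i ih =>
        have hy := centralizer_eq hne1 (by simp [hne1]) hd'
        rw [← hy, mem_centralizer_singleton_iff]
        have := congrArg (fun m => φ (ψ d) * m * (φ (ψ d))⁻¹) (mem_centralizer_singleton_iff.1 ih)
        simpa [pow_succ', mul_assoc] using this
    have hy := centralizer_eq hne1 (by simp [hne1]) hxN
    rw [← hy, mem_centralizer_singleton_iff]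
    have := congrArg (fun m => x * m * x⁻¹) (mem_centralizer_singleton_iff.1 ha)
    simpa [mul_assoc] using this
  have hord : orderOf (φ (ψ d)) = Fintype.card E - 1 := by
    rw [orderOf_injective φ (MulAut.conj θ).injective, orderOf_injective ψ hψ]
    let D : Eˣ →* Matrix.SpecialLinearGroup (Fin 2) E :=
      { toFun := fun a => mk2 (a : E) 0 0 ((a⁻¹ : Eˣ) : E) (by simp)
        map_one' := by refine slExt ?_ ?_ ?_ ?_ <;> simp
        map_mul' := fun a b => by refine slExt ?_ ?_ ?_ ?_ <;> simp [mul_apply', mul_comm] }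
    have hD : Function.Injective D := fun a b h =>
      Units.ext (congrArg (fun m : Matrix.SpecialLinearGroup (Fin 2) E => m.1 0 0) h)
    rw [show d = D ν from rfl, orderOf_injective D hD, orderOf_eq_card_of_forall_mem_zpowers hν,
      Nat.card_eq_fintype_card, Fintype.card_units]
  have hdvd : Fintype.card E - 1 ∣ Fintype.card F - 1 := by
    set x := φ (ψ d) with hx
    have h1 := pow_mem (mem_borelPow.2 hdB) (Fintype.card F - 1)
    have h00 : ∀ j : ℕ, (x ^ j).1 0 0 = x.1 0 0 ^ j := fun j => by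
      induction j with
      | zero => simp
      | succ j ih => rw [pow_succ, mul_apply', ih, (mem_borelPow.1 hdB).1, mul_zero, add_zero, pow_succ]
    set y := x ^ (Fintype.card F - 1) with hy
    have hy0 : y.1 0 0 = 1 := by rw [hy, h00]; exact (mem_borelPow.1 hdB).2
    have hyd := det_eq y
    rw [h1.1, hy0, mul_zero, sub_zero, one_mul] at hyd
    have hy2 : y * y = 1 := by
      refine slExt ?_ ?_ ?_ ?_ <;> simp [mul_apply', h1.1, hy0, hyd, CharTwo.add_self_eq_zero]
    rw [← pow_two, hy, ← pow_mul] at hy2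
    have h2 : Nat.Coprime (Fintype.card E - 1) 2 := by
      obtain ⟨k, -, hk⟩ := FiniteField.card E 2
      rw [hk, Nat.coprime_comm, Nat.Prime.coprime_iff_not_dvd Nat.prime_two]
      have := Nat.one_le_two_pow (n := (k : ℕ))
      have h' : 2 ∣ 2 ^ (k : ℕ) := dvd_pow_self 2 k.pos.ne'
      omega
    exact h2.dvd_of_dvd_mul_right (hord ▸ orderOf_dvd_of_pow_eq_one hy2)
  have hqE : Fintype.card E = Fintype.card F := by
    have h1 := Fintype.one_lt_card (α := E)
    have h2 := Fintype.one_lt_card (α := F)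
    rcases (Nat.dvd_prime hq).1 hdvd with h | h
    · exfalso
      rw [show Fintype.card E = 2 by omega] at hcardH
      exact hs (Induced.Burnside.isSolvable_of_card_eq 2 3 1 1 Nat.prime_two Nat.prime_three (by omega))
    · omega
  exact eq_top_of_card_eq H (by rw [hcardH, Linear.card_SL_two, hqE])

theorem selfNormalizing (hq : (Fintype.card F - 1).Prime) : SelfNormalizing SL := by
  intro H hH
  by_cases hs : Group.IsSolvable H
  · exact normalizer_solvable hq hH
  · rw [eq_top_of_nonsolvable hq hs]; exact le_top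

/-- Self-normalisation forces `q - 1` to be prime. -/
theorem prime_pred (h : SelfNormalizing SL) (hF : 4 ≤ Fintype.card F) :
    (Fintype.card F - 1).Prime := by
  classical
  by_contra hnp
  obtain ⟨s, hsd, hs2, hslt⟩ := Nat.exists_dvd_of_not_prime2 (by omega) hnp
  obtain ⟨ν, hν⟩ := IsCyclic.exists_generator (α := Fˣ)
  obtain ⟨t, ht⟩ := hsd
  have ho : orderOf ν = Fintype.card F - 1 := by
    rw [orderOf_eq_card_of_forall_mem_zpowers hν, Nat.card_eq_fintype_card, Fintype.card_units]
  set z := ν ^ t with hz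
  have htpos : 0 < t := Nat.pos_of_ne_zero fun e => by rw [e, mul_zero] at ht; omega
  have hzs : z ^ s = 1 := by rw [hz, ← pow_mul, mul_comm, ← ht, ← ho, pow_orderOf_eq_one]
  have hz1 : z ≠ 1 := fun e => by
    have := Nat.le_of_dvd htpos (ho ▸ orderOf_dvd_of_pow_eq_one e)
    nlinarith
  set W := (borelPow s : Subgroup SL)
  let dz : SL := mk2 (z : F) 0 0 ((z⁻¹ : Fˣ) : F) (by simp)
  have hdW : dz ∈ W := ⟨rfl, by simpa [dz] using congrArg Units.val hzs⟩
  have huW : uni (1 : F) ∈ W := ⟨rfl, by simp [uni]⟩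
  have hWc : ¬ CommSub W := fun hc => by
    have e := congrArg (fun m : SL => m.1 0 1) (hc dz hdW _ huW)
    simp [mul_apply', dz, uni] at e
    refine hz1 (Units.ext ?_)
    have hinv : (z : F) * (z : F)⁻¹ = 1 := mul_inv_cancel₀ z.ne_zero
    have hsq : ((z : F) + 1) * ((z : F) + 1) = 0 := by
      linear_combination (z : F) * e + hinv + ((z : F) + 1) * (CharTwo.two_eq_zero : (2 : F) = 0)
    rwa [mul_self_eq_zero, add_eq_zero_iff_eq_neg, CharTwo.neg_eq] at hsq
  let dν : SL := mk2 (ν : F) 0 0 ((ν⁻¹ : Fˣ) : F) (by simp)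
  have hn : dν ∈ normalizer (W : Set SL) := by
    have key : ∀ (d : SL), d.1 1 0 = 0 → ∀ g ∈ W, d * g * d⁻¹ ∈ W := fun d hd g hg => by
      have hdd := det_eq d
      rw [hd, mul_zero, sub_zero] at hdd
      refine ⟨?_, ?_⟩
      · simp [mul_apply', Cfsg.Agent.Lib.PSLTwo.Sylow.inv_apply', Matrix.adjugate_fin_two, hd, hg.1]
      · have : (d * g * d⁻¹).1 0 0 = g.1 0 0 := by
          simp [mul_apply', Cfsg.Agent.Lib.PSLTwo.Sylow.inv_apply', Matrix.adjugate_fin_two, hd, hg.1]
          linear_combination (g.1 0 0) * hdd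
        rw [this]; exact hg.2
    refine mem_normalizer_iff.2 fun g => ⟨key dν rfl g, fun hg => ?_⟩
    have hi : (dν⁻¹).1 1 0 = 0 := by simp [Cfsg.Agent.Lib.PSLTwo.Sylow.inv_apply', Matrix.adjugate_fin_two, dν]
    simpa [mul_assoc] using key dν⁻¹ hi _ hg
  have := (h W hWc hn).2
  have hpow : ν ^ s = 1 := Units.ext (by simpa [dν] using this)
  have := Nat.le_of_dvd (by omega) (ho ▸ orderOf_dvd_of_pow_eq_one hpow)
  omega

end Finite

end Cfsg.Agent.Lib.SelfNorm.SLTwo
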