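import Mathlib
import Cfsg.Agent.Lib.Transfer.Frobenius

/-!
# Groups in which every non-abelian subgroup is self-normalising

* `solvable_or_simple` : such a group is solvable or simple;
* `centralizer_comm` : in the simple case every non-trivial element has an abelian centraliser.
-/

set_option autoImplicit false
set_option linter.unusedSectionVars false

namespace Cfsg.Agent.Lib.SelfNorm.Basic

open Subgroup

universe u

variable {G : Type u} [Group G]

/-- The elements of `H` commute pairwise. -/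
def CommSub (H : Subgroup G) : Prop := ∀ a ∈ H, ∀ b ∈ H, a * b = b * a

/-- Every non-commutative subgroup is self-normalising. -/
def SelfNormalizing (G : Type u) [Group G] : Prop :=
  ∀ H : Subgroup G, ¬ CommSub H → normalizer (H : Set G) ≤ H

theorem commSub_iff (H : Subgroup G) : CommSub H ↔ IsMulCommutative H :=
  ⟨fun h => ⟨⟨fun a b => Subtype.ext (h a a.2 b b.2)⟩⟩,
    fun h a ha b hb => congrArg Subtype.val (h.1.1 ⟨a, ha⟩ ⟨b, hb⟩)⟩

theorem CommSub.mono {H K : Subgroup G} (h : CommSub K) (hle : H ≤ K) : CommSub H :=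
  fun a ha b hb => h a (hle ha) b (hle hb)

theorem solvable_of_comm {H : Type*} [Group H] (h : ∀ a b : H, a * b = b * a) :
    Group.IsSolvable H :=
  Group.isSolvable_of_comm h

theorem sn_subgroup (h : SelfNormalizing G) (X : Subgroup G) : SelfNormalizing X := by
  intro H hH g hg
  have hnc : ¬ CommSub (H.map X.subtype) := fun hc => hH fun a ha b hb =>
    Subtype.ext (hc a (mem_map_of_mem X.subtype ha) b (mem_map_of_mem X.subtype hb))
  have hgn : (g : G) ∈ normalizer ((H.map X.subtype : Subgroup G) : Set G) := by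
    refine mem_normalizer_iff.2 fun n => ⟨?_, ?_⟩
    · rintro ⟨m, hm, rfl⟩
      exact ⟨g * m * g⁻¹, (mem_normalizer_iff.1 hg m).1 hm, by simp⟩
    · rintro ⟨m, hm, hmn⟩
      refine ⟨g⁻¹ * m * g, ?_, ?_⟩
      · exact (mem_normalizer_iff.1 hg _).2 (by simpa [mul_assoc] using hm)
      · rw [coe_subtype] at hmn
        simp [hmn, mul_assoc]
  obtain ⟨m, hm, hmg⟩ := h _ hnc hgn
  rwa [← Subtype.ext (show ((m : G)) = (g : G) from hmg)]

theorem sn_quotient (h : SelfNormalizing G) (M : Subgroup G) [M.Normal] :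
    SelfNormalizing (G ⧸ M) := by
  intro H hH x hx
  obtain ⟨g, rfl⟩ := QuotientGroup.mk'_surjective M x
  refine h (H.comap (QuotientGroup.mk' M)) (fun hc => hH fun a ha b hb => ?_) ?_
  · obtain ⟨a, rfl⟩ := QuotientGroup.mk'_surjective M a
    obtain ⟨b, rfl⟩ := QuotientGroup.mk'_surjective M b
    rw [← map_mul, ← map_mul, hc a ha b hb]
  · refine mem_normalizer_iff.2 fun n => ?_
    rw [mem_comap, mem_comap, map_mul, map_mul, map_inv]
    exact mem_normalizer_iff.1 hx _

/-- A proper subgroup normalised by `X` inside `X` is abelian. -/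
theorem comm_of_normalized (h : SelfNormalizing G) {X K : Subgroup G} (hle : K ≤ X)
    (hn : X ≤ normalizer (K : Set G)) (hne : K ≠ X) : CommSub K :=
  by_contra fun hc => hne (le_antisymm hle (hn.trans (h K hc)))

variable [Finite G]

/-- A solvable non-abelian `X` has an abelian normal subgroup of prime index above any
abelian normal subgroup. -/
theorem exists_prime_index (h : SelfNormalizing G) {X A : Subgroup G} [hXs : Group.IsSolvable X]
    (hX : ¬ CommSub X) (hAX : A ≤ X) (hAn : X ≤ normalizer (A : Set G)) (hA : CommSub A) :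
    ∃ (M : Subgroup G) (r : ℕ), r.Prime ∧ A ≤ M ∧ M ≤ X ∧ X ≤ normalizer (M : Set G) ∧ CommSub M ∧
      M.relIndex X = r ∧ (∀ K : Subgroup G, M ≤ K → K ≤ X → K = M ∨ K = X) ∧
      (∀ g ∈ X, g ∉ M → r ∣ orderOf g) := by
  classical
  set A' := A.subgroupOf X with hA'
  have : A'.Normal := normal_subgroupOf_of_le_normalizer hAn
  have hJ : A' ⊔ _root_.commutator X ≠ ⊤ := by
    intro hJ
    have htop : _root_.commutator (↥X ⧸ A') = ⊤ := by
      have hc : (_root_.commutator X).map (QuotientGroup.mk' A') = _root_.commutator (↥X ⧸ A') := by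
        rw [commutator_def, commutator_def, map_commutator,
          map_top_of_surjective _ (QuotientGroup.mk'_surjective A')]
      rw [← hc, eq_top_iff]
      intro q _
      obtain ⟨y, rfl⟩ := QuotientGroup.mk'_surjective A' q
      have hy : y ∈ A' ⊔ _root_.commutator X := hJ ▸ mem_top y
      obtain ⟨a, ha, c, hc', rfl⟩ := mem_sup_of_normal_left.1 hy
      refine ⟨c, hc', ?_⟩
      rw [map_mul, show QuotientGroup.mk' A' a = 1 from (QuotientGroup.eq_one_iff a).2 ha, one_mul]
    have hs : Subsingleton (↥X ⧸ A') := by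
      by_contra hns
      rw [not_subsingleton_iff_nontrivial] at hns
      exact (Group.IsSolvable.commutator_lt_top_of_nontrivial (↥X ⧸ A')).ne htop
    exact hX (hA.mono fun a ha =>
      (QuotientGroup.eq_one_iff (N := A') (⟨a, ha⟩ : X)).1 (Subsingleton.elim _ _))
  obtain ⟨M', hM', hJM⟩ :=
    (IsCoatomic.eq_top_or_exists_le_coatom (A' ⊔ _root_.commutator X)).resolve_left hJ
  have hM'n : M'.Normal := ⟨fun m hm y => by
    have : y * m * y⁻¹ * m⁻¹ ∈ M' := hJM (mem_sup_right (commutator_mem_commutator (mem_top y) (mem_top m)))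
    simpa using mul_mem this hm⟩
  have hbetween : ∀ K : Subgroup G, M'.map X.subtype ≤ K → K ≤ X → K = M'.map X.subtype ∨ K = X := by
    intro K h1 h2
    have h3 : M' ≤ K.subgroupOf X := fun m hm => h1 (mem_map_of_mem X.subtype hm)
    rcases eq_or_lt_of_le h3 with e | e
    · left
      rw [e, subgroupOf_map_subtype, inf_of_le_left h2]
    · right
      exact le_antisymm h2 (subgroupOf_eq_top.1 (hM'.2 _ e))
  have hcomm : ∀ a b : ↥X ⧸ M', a * b = b * a := fun a b => by
    obtain ⟨a, rfl⟩ := QuotientGroup.mk'_surjective M' a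
    obtain ⟨b, rfl⟩ := QuotientGroup.mk'_surjective M' b
    rw [← map_mul, ← map_mul]
    refine (QuotientGroup.eq).2 (hJM (mem_sup_right ?_))
    have := commutator_mem_commutator (mem_top b⁻¹) (mem_top a⁻¹) (H₁ := (⊤ : Subgroup X))
      (H₂ := (⊤ : Subgroup X))
    rwa [commutatorElement_def, inv_inv, inv_inv, ← mul_inv_rev, mul_assoc (a * b)⁻¹] at this
  have hr : (M'.index).Prime := by
    have : Nontrivial (↥X ⧸ M') := QuotientGroup.nontrivial_iff.2 hM'.1
    have hsimp : IsSimpleGroup (↥X ⧸ M') := ⟨fun N _ => by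
      by_contra hc
      push Not at hc
      have hle : M' ≤ N.comap (QuotientGroup.mk' M') := fun m hm => by
        rw [mem_comap, show QuotientGroup.mk' M' m = 1 from (QuotientGroup.eq_one_iff m).2 hm]
        exact one_mem N
      rcases eq_or_lt_of_le hle with e | e
      · apply hc.1
        rw [← map_comap_eq_self_of_surjective (QuotientGroup.mk'_surjective M') N, ← e,
          QuotientGroup.map_mk'_self]
      · apply hc.2
        rw [← map_comap_eq_self_of_surjective (QuotientGroup.mk'_surjective M') N, hM'.2 _ e,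
          map_top_of_surjective _ (QuotientGroup.mk'_surjective M')]⟩
    let _ : CommGroup (↥X ⧸ M') := { (inferInstance : Group (↥X ⧸ M')) with mul_comm := hcomm }
    exact IsSimpleGroup.prime_card
  have hMle : M'.map X.subtype ≤ X := map_subtype_le M'
  have hMn : X ≤ normalizer ((M'.map X.subtype : Subgroup G) : Set G) := by
    intro x hx
    refine mem_normalizer_iff.2 fun n => ⟨?_, ?_⟩
    · rintro ⟨m, hm, rfl⟩
      exact ⟨⟨x, hx⟩ * m * ⟨x, hx⟩⁻¹, hM'n.conj_mem m hm _, by simp⟩
    · rintro ⟨m, hm, hmn⟩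
      refine ⟨(⟨x, hx⟩ : X)⁻¹ * m * ⟨x, hx⟩, by simpa using hM'n.conj_mem m hm (⟨x, hx⟩ : X)⁻¹, ?_⟩
      rw [coe_subtype] at hmn
      simp [hmn, mul_assoc]
  have hMne : M'.map X.subtype ≠ X := fun e => hM'.1 (eq_top_iff.2 fun y _ => by
    have hy : (y : G) ∈ M'.map X.subtype := e.symm ▸ y.2
    obtain ⟨m, hm, hmy⟩ := hy
    rwa [← Subtype.ext hmy])
  refine ⟨M'.map X.subtype, M'.index, hr,
    fun a ha => ⟨⟨a, hAX ha⟩, hJM (mem_sup_left ha), rfl⟩, hMle, hMn,
    comm_of_normalized h hMle hMn hMne, ?_, hbetween, fun g hg hgM => ?_⟩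
  · rw [relIndex, subgroupOf, comap_map_eq_self_of_injective (subtype_injective X)]
  · have h1 : QuotientGroup.mk' M' ⟨g, hg⟩ ≠ 1 := fun e =>
      hgM ⟨⟨g, hg⟩, (QuotientGroup.eq_one_iff _).1 e, rfl⟩
    have := Fact.mk hr
    have h2 : orderOf (QuotientGroup.mk' M' ⟨g, hg⟩) = M'.index :=
      ((Nat.dvd_prime hr).1 (orderOf_dvd_natCard _)).resolve_left (fun e => h1 (orderOf_eq_one_iff.1 e))
    rw [← h2, ← Subgroup.orderOf_mk g hg]
    exact orderOf_map_dvd _ _

/-- The transfer kills nothing central in the normaliser of an abelian Sylow subgroup. -/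
theorem exists_ker_of_central {p : ℕ} [Fact p.Prime] (P : Sylow p G)
    (hP : CommSub (P : Subgroup G)) {x : G} (hx : x ∈ (P : Subgroup G)) (hx1 : x ≠ 1)
    (hc : ∀ n ∈ normalizer ((P : Subgroup G) : Set G), n * x = x * n) :
    ∃ K : Subgroup G, K.Normal ∧ K ≠ ⊤ ∧ ∀ a b : G, a * b * a⁻¹ * b⁻¹ ∈ K := by
  have hcm : IsMulCommutative (P : Subgroup G) := (commSub_iff _).1 hP
  let _ : CommGroup (P : Subgroup G) :=
    { (inferInstance : Group (P : Subgroup G)) with mul_comm := hcm.1.1 }
  have key : ∀ (k : ℕ) (g₀ : G), g₀⁻¹ * x ^ k * g₀ ∈ (P : Subgroup G) →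
      g₀⁻¹ * x ^ k * g₀ = x ^ k := by
    intro k g₀ hk
    obtain ⟨n, hn, e⟩ := P.conj_eq_normalizer_conj_of_mem (x ^ k) g₀ (pow_mem hx k) hk
    rw [e]
    exact Commute.inv_mul_cancel ((show Commute n x from hc n hn).pow_right k)
  set φ := MonoidHom.transfer (H := (P : Subgroup G)) (MonoidHom.id (P : Subgroup G))
  have hφ : φ x ≠ 1 := by
    intro e
    rw [MonoidHom.transfer_eq_pow _ x key] at e
    have e' : x ^ (P : Subgroup G).index = 1 := congrArg Subtype.val e
    obtain ⟨j, hj⟩ := P.2 ⟨x, hx⟩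
    have hj' : x ^ p ^ j = 1 := by simpa using congrArg Subtype.val hj
    have hcop : Nat.Coprime (p ^ j) (P : Subgroup G).index :=
      Nat.Coprime.pow_left _ ((Nat.Prime.coprime_iff_not_dvd Fact.out).2 P.not_dvd_index)
    have := pow_gcd_eq_one.2 ⟨hj', e'⟩
    rw [hcop.gcd_eq_one, pow_one] at this
    exact hx1 this
  refine ⟨φ.ker, inferInstance, fun e => hφ (MonoidHom.mem_ker.1 (e ▸ mem_top x)), fun a b => ?_⟩
  rw [MonoidHom.mem_ker, map_mul, map_mul, map_mul, map_inv, map_inv, mul_comm (φ a) (φ b)]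
  simp

theorem not_central [IsSimpleGroup G] (hna : ¬ CommSub (⊤ : Subgroup G)) {p : ℕ} [Fact p.Prime]
    (P : Sylow p G) (hP : CommSub (P : Subgroup G)) {x : G} (hx : x ∈ (P : Subgroup G))
    (hx1 : x ≠ 1) (hc : ∀ n ∈ normalizer ((P : Subgroup G) : Set G), n * x = x * n) : False := by
  obtain ⟨K, hKn, hK, hab⟩ := exists_ker_of_central P hP hx hx1 hc
  obtain hb | ht := hKn.eq_bot_or_eq_top
  · refine hna fun a _ b _ => ?_
    have := hab a b
    rw [hb, mem_bot, mul_inv_eq_one, mul_inv_eq_iff_eq_mul] at this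
    exact this
  · exact hK ht

/-- Hypothesis supplied by induction: a proper subgroup with a proper non-trivial normal
subgroup is solvable. -/
def SolvHyp (G : Type u) [Group G] : Prop :=
  ∀ X : Subgroup G, X ≠ ⊤ → ∀ A : Subgroup G, A ≤ X → X ≤ normalizer (A : Set G) → A ≠ ⊥ → A ≠ X →
    Group.IsSolvable X

theorem ne_top_of_normalized [IsSimpleGroup G] {X A : Subgroup G}
    (hAn : X ≤ normalizer (A : Set G)) (hA1 : A ≠ ⊥) (hAt : A ≠ ⊤) : X ≠ ⊤ := fun e =>
  ((normalizer_eq_top_iff.1 (top_le_iff.1 (e ▸ hAn))).eq_bot_or_eq_top).elim hA1 hAt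

/-- The elements of `p`-power order in an abelian subgroup. -/
def pPart (p : ℕ) (M : Subgroup G) (hM : CommSub M) : Subgroup G where
  carrier := {g | g ∈ M ∧ ∃ k, g ^ p ^ k = 1}
  one_mem' := ⟨one_mem M, 0, one_pow _⟩
  mul_mem' := fun {a b} ⟨ha, i, hi⟩ ⟨hb, j, hj⟩ => ⟨mul_mem ha hb, i + j, by
    rw [(show Commute a b from hM a ha b hb).mul_pow, pow_add, pow_mul, hi, one_pow, mul_comm (p ^ i),
      pow_mul, hj, one_pow, one_mul]⟩
  inv_mem' := fun {a} ⟨ha, i, hi⟩ => ⟨inv_mem ha, i, by rw [inv_pow, hi, inv_one]⟩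

/-- The elements of order prime to `p` in an abelian subgroup. -/
def coPart (p : ℕ) (M : Subgroup G) (hM : CommSub M) : Subgroup G where
  carrier := {g | g ∈ M ∧ (orderOf g).Coprime p}
  one_mem' := ⟨one_mem M, by simp⟩
  mul_mem' := fun {a b} ⟨ha, hi⟩ ⟨hb, hj⟩ => ⟨mul_mem ha hb,
    Nat.Coprime.coprime_dvd_left (show Commute a b from hM a ha b hb).orderOf_mul_dvd_mul_orderOf
      (Nat.Coprime.mul_left hi hj)⟩
  inv_mem' := fun {a} ⟨ha, hi⟩ => ⟨inv_mem ha, by rwa [orderOf_inv]⟩

theorem le_normalizer_of_conj {X K : Subgroup G}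
    (hc : ∀ x ∈ X, ∀ k ∈ K, x * k * x⁻¹ ∈ K) : X ≤ normalizer (K : Set G) := fun x hx =>
  mem_normalizer_iff.2 fun n => ⟨fun hn => hc x hx n hn, fun hn => by
    simpa [mul_assoc] using hc x⁻¹ (inv_mem hx) _ hn⟩

theorem normalizer_pPart (p : ℕ) {M X : Subgroup G} (hM : CommSub M)
    (hn : X ≤ normalizer (M : Set G)) : X ≤ normalizer (pPart p M hM : Set G) :=
  le_normalizer_of_conj fun x hx k ⟨hk, i, hi⟩ => ⟨(mem_normalizer_iff.1 (hn hx) k).1 hk, i, by
    rw [conj_pow, hi, mul_one, mul_inv_cancel]⟩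

theorem normalizer_coPart (p : ℕ) {M X : Subgroup G} (hM : CommSub M)
    (hn : X ≤ normalizer (M : Set G)) : X ≤ normalizer (coPart p M hM : Set G) :=
  le_normalizer_of_conj fun x hx k ⟨hk, hi⟩ => ⟨(mem_normalizer_iff.1 (hn hx) k).1 hk, by
    rwa [show x * k * x⁻¹ = MulAut.conj x k from rfl, MulEquiv.orderOf_eq]⟩

theorem isPGroup_pPart (p : ℕ) (M : Subgroup G) (hM : CommSub M) : IsPGroup p (pPart p M hM) :=
  fun g => g.2.2.imp fun k hk => Subtype.ext (by rw [coe_pow, coe_one]; exact hk)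

theorem not_hasNormalPComplement [IsSimpleGroup G] (hna : ¬ CommSub (⊤ : Subgroup G)) {p : ℕ}
    [Fact p.Prime] (P : Sylow p G) (hP : ¬ CommSub (P : Subgroup G)) :
    ¬ Cfsg.HasNormalPComplement p G := by
  intro h
  have : Group.IsNilpotent (P : Subgroup G) := P.2.isNilpotent
  rw [Cfsg.Agent.Lib.Transfer.PResidual.hasNormalPComplement_iff_not_dvd] at h
  rcases (Cfsg.Agent.Lib.Transfer.PResidual.pResidual_normal (p := p) (G := G)).eq_bot_or_eq_top
    with hb | ht
  · have hpg : IsPGroup p G := by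
      intro g
      obtain ⟨n, m, hm, hnm⟩ := Nat.exists_eq_pow_mul_and_not_dvd (orderOf_pos g).ne' p
        (Fact.out : p.Prime).one_lt.ne'
      refine ⟨n, ?_⟩
      have hmem : g ^ p ^ n ∈ Cfsg.pResidual p G :=
        Cfsg.Agent.Lib.Transfer.PResidual.mem_pResidual (by
          rw [orderOf_pow' g (pow_ne_zero _ (Fact.out : p.Prime).ne_zero), hnm,
            Nat.gcd_eq_right (dvd_mul_right _ _), Nat.mul_div_cancel_left _ (pow_pos (Fact.out : p.Prime).pos _)]
          exact ((Nat.Prime.coprime_iff_not_dvd Fact.out).2 hm).symm)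
      rwa [hb, mem_bot] at hmem
    have := hpg.isNilpotent
    have hs : Group.IsSolvable G := inferInstance
    exact hna fun a _ b _ => IsSimpleGroup.comm_iff_isSolvable.2 hs a b
  · apply hP
    have h1 : ¬ p ∣ Nat.card G := by rwa [ht, card_top] at h
    intro a ha b hb
    obtain ⟨k, hk⟩ := IsPGroup.iff_card.1 P.2
    have hk0 : k = 0 := by
      by_contra hk0
      exact h1 ((hk ▸ dvd_pow_self p hk0 : p ∣ Nat.card (P : Subgroup G)).trans (card_subgroup_dvd_card _))
    rw [hk0, pow_zero, Nat.card_eq_one_iff_unique] at hk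
    have := hk.1
    rw [show a = b from congrArg Subtype.val
      (Subsingleton.elim (⟨a, ha⟩ : (P : Subgroup G)) ⟨b, hb⟩)]

/-- In a simple self-normalising group the Sylow subgroups are abelian. -/
theorem sylow_comm [IsSimpleGroup G] (h : SelfNormalizing G) (hs : SolvHyp G)
    (hna : ¬ CommSub (⊤ : Subgroup G)) {p : ℕ} [hp : Fact p.Prime] (P : Sylow p G) :
    CommSub (P : Subgroup G) := by
  classical
  by_contra hP
  let Bad : Subgroup G → Prop := fun Q => IsPGroup p Q ∧ Q ≠ ⊥ ∧
    ∃ g ∈ normalizer (Q : Set G), (orderOf g).Coprime p ∧ g ∉ centralizer (Q : Set G)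
  obtain ⟨Q, hQ, hmax⟩ : ∃ Q, Bad Q ∧ ∀ S, Bad S → Nat.card S ≤ Nat.card Q := by
    have hne : ∃ Q, Bad Q := by
      by_contra hc
      refine not_hasNormalPComplement hna P hP
        (Cfsg.Agent.Lib.Transfer.Frobenius.hasNormalPComplement_of_forall_centralizes
          fun Q hQ hQ1 g hg hgp => by_contra fun hgc => hc ⟨Q, hQ, hQ1, g, hg, hgp, hgc⟩)
    have : Fintype (Subgroup G) := Fintype.ofFinite _
    obtain ⟨Q, hQ, hm⟩ := Finset.exists_max_image (Finset.univ.filter Bad) (fun S => Nat.card S)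
      (let ⟨Q, hQ⟩ := hne; ⟨Q, by simpa using hQ⟩)
    exact ⟨Q, by simpa using hQ, fun S hS => hm S (by simpa using hS)⟩
  obtain ⟨hQp, hQ1, g, hgN, hgp, hgC⟩ := hQ
  obtain ⟨P1, hQP1⟩ := hQp.exists_le_sylow
  have hP1 : ¬ CommSub (P1 : Subgroup G) := fun hc => hP ((commSub_iff _).2
    (by
      have := (commSub_iff _).1 hc
      exact ⟨⟨fun a b => (P.equiv P1).injective (by rw [map_mul, map_mul]; exact this.1.1 _ _)⟩⟩))
  have hgQ : g ∉ Q := fun hgQ => by
    obtain ⟨k, hk⟩ := hQp ⟨g, hgQ⟩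
    have h1 : orderOf g ∣ p ^ k := orderOf_dvd_of_pow_eq_one (by simpa using congrArg Subtype.val hk)
    have : orderOf g = 1 := Nat.eq_one_of_dvd_coprimes (hgp.pow_right k) dvd_rfl h1
    exact hgC (by rw [orderOf_eq_one_iff.1 this]; exact one_mem _)
  have hQne : Q ≠ (P1 : Subgroup G) := fun e => hgQ (e ▸ h _ hP1 (e ▸ hgN))
  have hlt : Q < (P1 : Subgroup G) := lt_of_le_of_ne hQP1 hQne
  -- the normaliser in `P1` grows
  obtain ⟨z, hzP, hzN, hzQ⟩ : ∃ z ∈ (P1 : Subgroup G), z ∈ normalizer (Q : Set G) ∧ z ∉ Q := by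
    have : Group.IsNilpotent (P1 : Subgroup G) := P1.2.isNilpotent
    have hlt' : Q.subgroupOf P1 < ⊤ := lt_top_iff_ne_top.2 fun e =>
      hQne (le_antisymm hQP1 (subgroupOf_eq_top.1 e))
    obtain ⟨z, hzn, hzQ⟩ := SetLike.exists_of_lt (Group.normalizerCondition_of_isNilpotent _ hlt')
    refine ⟨z, z.2, mem_normalizer_iff.2 fun n => ⟨fun hn => ?_, fun hn => ?_⟩, hzQ⟩
    · exact (mem_normalizer_iff.1 hzn ⟨n, hQP1 hn⟩).1 hn
    · have hn' : n ∈ (P1 : Subgroup G) := by
        simpa [mul_assoc] using mul_mem (mul_mem (inv_mem z.2) (hQP1 hn)) z.2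
      exact (mem_normalizer_iff.1 hzn ⟨n, hn'⟩).2 hn
  set X := normalizer (Q : Set G) with hX
  have hQX : Q ≤ X := le_normalizer
  have hQneX : Q ≠ X := fun e => hgQ (e ▸ hgN)
  have hQt : Q ≠ ⊤ := fun e => hgQ (e ▸ mem_top g)
  have hXt : X ≠ ⊤ := ne_top_of_normalized le_rfl hQ1 hQt
  have : Group.IsSolvable X := hs X hXt Q hQX le_rfl hQ1 hQneX
  have hQc : CommSub Q := comm_of_normalized h hQX le_rfl hQneX
  have hXc : ¬ CommSub X := fun hc =>
    hgC (mem_centralizer_iff.2 fun q hq => hc q (hQX hq) g hgN)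
  set C := centralizer (Q : Set G) ⊓ X
  have hCn : X ≤ normalizer (C : Set G) := le_normalizer_of_conj fun x hx k hk =>
    ⟨mem_centralizer_iff.2 fun q hq => by
      have hq' : x⁻¹ * q * x ∈ Q := (mem_normalizer_iff.1 hx _).2 (by simpa [mul_assoc] using hq)
      have := congrArg (fun y => x * y * x⁻¹) (mem_centralizer_iff.1 hk.1 _ hq')
      simpa [mul_assoc] using this,
    (X.mul_mem (X.mul_mem hx hk.2) (X.inv_mem hx))⟩
  have hCne : C ≠ X := fun e => hgC (e.symm ▸ hgN : g ∈ C).1
  have hCc : CommSub C := comm_of_normalized h inf_le_right hCn hCne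
  obtain ⟨M, r, hr, hCM, hMX, hMn, hMc, -, -, hdiv⟩ := exists_prime_index h hXc inf_le_right hCn hCc
  have hQC : Q ≤ C := fun q hq => ⟨mem_centralizer_iff.2 fun q' hq' => hQc q' hq' q hq, hQX hq⟩
  have hMC : M ≤ centralizer (Q : Set G) := fun m hm =>
    mem_centralizer_iff.2 fun q hq => hMc q (hCM (hQC hq)) m hm
  have hgM : g ∉ M := fun e => hgC (hMC e)
  have hrp : r ≠ p := fun e => by
    have h1 : p ∣ orderOf g := e ▸ hdiv g hgN hgM
    exact hp.out.one_lt.ne' (Nat.eq_one_of_dvd_coprimes hgp h1 dvd_rfl)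
  obtain ⟨k, hk⟩ := P1.2 ⟨z, hzP⟩
  have hzk : z ^ p ^ k = 1 := by simpa using congrArg Subtype.val hk
  have hzM : z ∈ M := by_contra fun hzM => hrp ((Nat.prime_dvd_prime_iff_eq hr hp.out).1
    (hr.dvd_of_dvd_pow ((hdiv z hzN hzM).trans (orderOf_dvd_of_pow_eq_one hzk))))
  have hQS : Q ≤ pPart p M hMc := fun q hq => ⟨hCM (hQC hq), by
    obtain ⟨i, hi⟩ := hQp ⟨q, hq⟩
    exact ⟨i, by simpa using congrArg Subtype.val hi⟩⟩
  have hbad : Bad (pPart p M hMc) := by
    refine ⟨isPGroup_pPart p M hMc, fun e => hQ1 (eq_bot_iff.2 (e ▸ hQS)), g,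
      normalizer_pPart p hMc hMn hgN, hgp, fun hc => hgC (mem_centralizer_iff.2 fun q hq =>
        mem_centralizer_iff.1 hc q (hQS hq))⟩
  have hle := hmax _ hbad
  exact hzQ ((eq_of_le_of_card_ge hQS hle).symm ▸ (⟨hzM, k, hzk⟩ : z ∈ pPart p M hMc))

/-- Centralisers of elements of prime order are abelian. -/
theorem centralizer_comm_prime [IsSimpleGroup G] (h : SelfNormalizing G) (hs : SolvHyp G)
    (hna : ¬ CommSub (⊤ : Subgroup G)) {p : ℕ} [hp : Fact p.Prime] {x : G} (hx : orderOf x = p) :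
    CommSub (centralizer ({x} : Set G)) := by
  classical
  by_contra hH
  set H := centralizer ({x} : Set G)
  have hx1 : x ≠ 1 := fun e => hp.out.one_lt.ne' (by rw [← hx, e, orderOf_one])
  have hxp : IsPGroup p (zpowers x) :=
    IsPGroup.of_card (n := 1) (by rw [Nat.card_zpowers, hx, pow_one])
  obtain ⟨P, hP⟩ := hxp.exists_le_sylow
  have hxP : x ∈ (P : Subgroup G) := hP (mem_zpowers x)
  have hPc := sylow_comm h hs hna P
  have hPH : (P : Subgroup G) ≤ H := fun y hy =>
    mem_centralizer_singleton_iff.2 (hPc y hy x hxP)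
  have hxH : zpowers x ≤ H := zpowers_le.2 (hPH hxP)
  have hHx : H ≤ normalizer (zpowers x : Set G) := le_normalizer_of_conj fun y hy k hk => by
    obtain ⟨i, rfl⟩ := mem_zpowers_iff.1 hk
    have hyc : Commute y (x ^ i) := (show Commute y x from mem_centralizer_singleton_iff.1 hy).zpow_right i
    rw [hyc.eq, mul_inv_cancel_right]
    exact zpow_mem (mem_zpowers x) i
  have hxne : zpowers x ≠ H := fun e => hH (fun a ha b hb => by
    rw [← e] at ha hb
    obtain ⟨i, rfl⟩ := mem_zpowers_iff.1 ha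
    obtain ⟨j, rfl⟩ := mem_zpowers_iff.1 hb
    exact ((Commute.refl x).zpow_zpow i j).eq)
  have hx_ne_bot : zpowers x ≠ ⊥ := zpowers_ne_bot.2 hx1
  have hxt : zpowers x ≠ ⊤ := fun e => hxne (le_antisymm hxH (e ▸ le_top))
  have hHt : H ≠ ⊤ := ne_top_of_normalized hHx hx_ne_bot hxt
  have : Group.IsSolvable H := hs H hHt _ hxH hHx hx_ne_bot hxne
  have hzc : CommSub (zpowers x) := comm_of_normalized h hxH hHx hxne
  obtain ⟨M, r, hr, hxM, hMH, hMn, hMc, -, hbetM, hdiv⟩ := exists_prime_index h hH hxH hHx hzc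
  have hpel : ∀ y ∈ (P : Subgroup G), ∃ k, y ^ p ^ k = 1 := fun y hy =>
    (P.2 ⟨y, hy⟩).imp fun k hk => by simpa using congrArg Subtype.val hk
  have hSP : pPart p M hMc ≤ (P : Subgroup G) := by
    have hsup : IsPGroup p ((pPart p M hMc) ⊔ (P : Subgroup G) : Subgroup G) :=
      IsPGroup.to_sup_of_normal_left' (isPGroup_pPart p M hMc) P.2
        (hPH.trans (normalizer_pPart p hMc hMn))
    exact le_sup_left.trans (P.3 hsup le_sup_right).le
  by_cases hPM : (P : Subgroup G) ≤ M
  · have hPS : pPart p M hMc = (P : Subgroup G) :=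
      le_antisymm hSP fun y hy => ⟨hPM hy, hpel y hy⟩
    set X := normalizer ((P : Subgroup G) : Set G) with hX
    have hHX : H ≤ X := by rw [hX, ← hPS]; exact normalizer_pPart p hMc hMn
    have hXc : ¬ CommSub X := fun hc => hH (hc.mono hHX)
    have hP1 : (P : Subgroup G) ≠ ⊥ := fun e => hx1 (by rwa [e, mem_bot] at hxP)
    have hPX : (P : Subgroup G) ≠ X := fun e => hXc (e ▸ hPc)
    have hPt : (P : Subgroup G) ≠ ⊤ := fun e => hna (e ▸ hPc)
    have : Group.IsSolvable X :=
      hs X (ne_top_of_normalized le_rfl hP1 hPt) _ le_normalizer le_rfl hP1 hPX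
    set C := centralizer ((P : Subgroup G) : Set G) ⊓ X
    have hCn : X ≤ normalizer (C : Set G) := le_normalizer_of_conj fun y hy k hk =>
      ⟨mem_centralizer_iff.2 fun q hq => by
        have hq' : y⁻¹ * q * y ∈ (P : Subgroup G) :=
          (mem_normalizer_iff.1 hy _).2 (by simpa [mul_assoc] using SetLike.mem_coe.1 hq)
        have := congrArg (fun w => y * w * y⁻¹) (mem_centralizer_iff.1 hk.1 _ hq')
        simpa [mul_assoc] using this,
      X.mul_mem (X.mul_mem hy hk.2) (X.inv_mem hy)⟩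
    have hCH : C ≤ H := fun c hc =>
      mem_centralizer_singleton_iff.2 (mem_centralizer_iff.1 hc.1 x hxP).symm
    have hCX : C ≠ X := fun e => not_central hna P hPc hxP hx1 fun n hn =>
      mem_centralizer_singleton_iff.1 (hCH (e.symm ▸ hn : n ∈ C))
    have hCc : CommSub C := comm_of_normalized h inf_le_right hCn hCX
    obtain ⟨M₂, r₂, -, hCM₂, hM₂X, -, hM₂c, -, hbet, -⟩ :=
      exists_prime_index h hXc inf_le_right hCn hCc
    have hM₂C : M₂ ≤ C := fun m hm => ⟨mem_centralizer_iff.2 fun q hq =>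
      hM₂c q (hCM₂ ⟨mem_centralizer_iff.2 fun q' hq' => hPc q' hq' q hq, le_normalizer hq⟩) m hm,
      hM₂X hm⟩
    rcases hbet H (hM₂C.trans hCH) hHX with e | e
    · exact hH (e ▸ hM₂c)
    · exact not_central hna P hPc hxP hx1 fun n hn => mem_centralizer_singleton_iff.1 (e.symm ▸ hn : n ∈ H)
  · obtain ⟨y, hyP, hyM⟩ := SetLike.not_le_iff_exists.1 hPM
    have hrp : r = p := by
      obtain ⟨k, hk⟩ := hpel y hyP
      exact (Nat.prime_dvd_prime_iff_eq hr hp.out).1
        (hr.dvd_of_dvd_pow ((hdiv y (hPH hyP) hyM).trans (orderOf_dvd_of_pow_eq_one hk)))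
    set O := coPart p M hMc
    have hHO : H ≤ normalizer (O : Set G) := normalizer_coPart p hMc hMn
    have hOH : O ≤ H := fun o ho => hMH ho.1
    set W := O ⊔ zpowers y
    have hWH : W ≤ H := sup_le hOH (zpowers_le.2 (hPH hyP))
    have hyO : zpowers y ≤ normalizer (O : Set G) := (zpowers_le.2 (hPH hyP)).trans hHO
    have hWel : ∀ w, w ∈ W ↔ ∃ o ∈ O, ∃ i : ℤ, w = o * y ^ i := by
      intro w
      refine ⟨fun hw => ?_, ?_⟩
      · rw [← SetLike.mem_coe, coe_mul_of_right_le_normalizer_left _ _ hyO, Set.mem_mul] at hw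
        obtain ⟨o, ho, b, hb, rfl⟩ := hw
        obtain ⟨i, rfl⟩ := mem_zpowers_iff.1 hb
        exact ⟨o, ho, i, rfl⟩
      · rintro ⟨o, ho, i, rfl⟩
        exact mul_mem (mem_sup_left ho) (mem_sup_right (zpow_mem (mem_zpowers y) i))
    have hsplit : ∀ z ∈ H, ∃ o ∈ O, ∃ s ∈ (P : Subgroup G), z = o * s := by
      have hHsup : H = O ⊔ (P : Subgroup G) := by
        refine le_antisymm (fun z hz => ?_) (sup_le hOH hPH)
        have hnorm : (P : Subgroup G) ≤ normalizer (O : Set G) := hPH.trans hHO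
        set K := O ⊔ (P : Subgroup G) with hK
        have hdvd : ∀ q : ℕ, q.Prime → ¬ q ∣ K.relIndex H := by
          intro q hq hd
          have := Fact.mk hq
          by_cases hqp : q = p
          · subst hqp
            exact P.not_dvd_index ((hd.trans (relIndex_dvd_of_le_left H le_sup_right)).trans
              (relIndex_dvd_index_of_le hPH))
          · obtain ⟨Sq⟩ := (inferInstance : Nonempty (Sylow q H))
            have hSq : (Sq : Subgroup H) ≤ K.subgroupOf H := fun w hw => by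
              obtain ⟨k, hk⟩ := Sq.2 ⟨w, hw⟩
              have hwk : (w : G) ^ q ^ k = 1 := by
                simpa using congrArg (fun v : (Sq : Subgroup H) => ((v : H) : G)) hk
              have hwM : (w : G) ∈ M := by_contra fun hwM => hqp (((Nat.prime_dvd_prime_iff_eq hr hq).1
                (hr.dvd_of_dvd_pow ((hdiv w w.2 hwM).trans (orderOf_dvd_of_pow_eq_one hwk)))).symm.trans hrp)
              exact mem_sup_left (show (w : G) ∈ O from ⟨hwM, Nat.Coprime.coprime_dvd_left
                (orderOf_dvd_of_pow_eq_one hwk) (Nat.Coprime.pow_left _ ((Nat.coprime_primes hq hp.out).2 hqp))⟩)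
            exact Sq.not_dvd_index (hd.trans (index_dvd_of_le hSq))
        have h1 : K.relIndex H = 1 := by
          by_contra h1
          obtain ⟨q, hq, hd⟩ := Nat.exists_prime_and_dvd h1
          exact hdvd q hq hd
        exact relIndex_eq_one.1 h1 hz
      intro z hz
      rw [hHsup, ← SetLike.mem_coe, coe_mul_of_right_le_normalizer_left _ _ (hPH.trans hHO),
        Set.mem_mul] at hz
      obtain ⟨o, ho, s, hs', rfl⟩ := hz
      exact ⟨o, ho, s, hs', rfl⟩
    have hWn : H ≤ normalizer (W : Set G) := le_normalizer_of_conj fun z hz w hw => by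
      obtain ⟨o, ho, s, hs', rfl⟩ := hsplit z hz
      obtain ⟨o', ho', i, rfl⟩ := (hWel w).1 hw
      have hsy : s * y ^ i * s⁻¹ = y ^ i := by
        rw [((show Commute s y from hPc s hs' y hyP).zpow_right i).eq, mul_inv_cancel_right]
      have e : o * s * (o' * y ^ i) * (o * s)⁻¹ = o * (s * o' * s⁻¹) * (s * y ^ i * s⁻¹) * o⁻¹ := by
        group
      rw [e, hsy]
      exact mul_mem (mul_mem (mul_mem (mem_sup_left ho)
        (mem_sup_left ((mem_normalizer_iff.1 (hHO (hPH hs')) o').1 ho')))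
          (mem_sup_right (zpow_mem (mem_zpowers y) i))) (mem_sup_left (inv_mem ho))
    have hWeq : W = H := by
      by_contra hne
      have hWc := comm_of_normalized h hWH hWn hne
      have hyo : ∀ o ∈ O, Commute y o := fun o ho =>
        hWc y (mem_sup_right (mem_zpowers y)) o (mem_sup_left ho)
      apply hH
      -- `y` centralises `M`, hence `H` is abelian
      have hyM' : ∀ m ∈ M, Commute y m := fun m hm => by
        obtain ⟨o, ho, s, hs', rfl⟩ := hsplit m (hMH hm)
        exact (hyo o ho).mul_right (hPc y hyP s hs')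
      have hMy : M ⊔ zpowers y = H :=
        (hbetM (M ⊔ zpowers y) le_sup_left (sup_le hMH (zpowers_le.2 (hPH hyP)))).resolve_left
          fun e => hyM (e ▸ mem_sup_right (mem_zpowers y))
      have hle : M ⊔ zpowers y ≤ centralizer ((M : Set G) ∪ {y}) := by
        refine sup_le (fun m hm => mem_centralizer_iff.2 ?_) (zpowers_le.2 (mem_centralizer_iff.2 ?_))
        · rintro q (hq | rfl)
          · exact hMc q hq m hm
          · exact hyM' m hm
        · rintro q (hq | rfl)
          · exact (hyM' q hq).symm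
          · rfl
      intro a ha b hb
      rw [← hMy] at ha hb
      have hsub : M ⊔ zpowers y ≤ centralizer ({b} : Set G) := by
        refine sup_le (fun m hm => mem_centralizer_singleton_iff.2 ?_)
          (zpowers_le.2 (mem_centralizer_singleton_iff.2 ?_))
        · exact mem_centralizer_iff.1 (hle hb) m (Or.inl hm)
        · exact mem_centralizer_iff.1 (hle hb) y (Or.inr rfl)
      exact mem_centralizer_singleton_iff.1 (hsub ha)
    have hPy : (P : Subgroup G) = zpowers y := by
      refine le_antisymm (fun s hs' => ?_) (zpowers_le.2 hyP)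
      obtain ⟨o, ho, i, e⟩ := (hWel s).1 (hWeq.symm ▸ hPH hs')
      have hoP : o ∈ (P : Subgroup G) := by
        rw [show o = s * (y ^ i)⁻¹ by rw [e, mul_inv_cancel_right]]
        exact mul_mem hs' (inv_mem (zpow_mem hyP i))
      have ho1 : o = 1 := by
        obtain ⟨k, hk⟩ := hpel o hoP
        exact orderOf_eq_one_iff.1 (Nat.eq_one_of_dvd_coprimes (ho.2.pow_right k) dvd_rfl
          (orderOf_dvd_of_pow_eq_one hk))
      rw [e, ho1, one_mul]
      exact zpow_mem (mem_zpowers y) i
    apply not_central hna P hPc hxP hx1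
    intro n hn
    have hnx : n * x * n⁻¹ ∈ (P : Subgroup G) := (mem_normalizer_iff.1 hn x).1 hxP
    have hzz : zpowers (n * x * n⁻¹) = zpowers x := by
      have hc : IsCyclic (P : Subgroup G) := by rw [hPy]; infer_instance
      let _ := Fintype.ofFinite (P : Subgroup G)
      have hord : orderOf (n * x * n⁻¹) = p := by
        rw [show n * x * n⁻¹ = MulAut.conj n x from rfl, MulEquiv.orderOf_eq, hx]
      have hsub : (Finset.univ.filter fun a : (P : Subgroup G) => a ∈ (zpowers x).subgroupOf P) ⊆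
          Finset.univ.filter fun a : (P : Subgroup G) => a ^ p = 1 := fun a ha => by
        simp only [Finset.mem_filter, Finset.mem_univ, true_and] at ha ⊢
        obtain ⟨i, hi⟩ := mem_zpowers_iff.1 ha
        refine Subtype.ext ?_
        have hi' : x ^ i = (a : G) := hi
        rw [coe_pow, coe_one, ← hi', ← zpow_natCast, ← zpow_mul, mul_comm, zpow_mul, zpow_natCast,
          ← hx, pow_orderOf_eq_one, one_zpow]
      have heq := Finset.eq_of_subset_of_card_le hsub
        ((IsCyclic.card_pow_eq_one_le hp.out.pos).trans (le_of_eq (by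
          rw [← Fintype.card_subtype, ← Nat.card_eq_fintype_card]
          exact (((Nat.card_congr (subgroupOfEquivOfLe (zpowers_le.2 hxP)).toEquiv).trans
            (Nat.card_zpowers x)).trans hx).symm)))
      have hmem : (⟨n * x * n⁻¹, hnx⟩ : (P : Subgroup G)) ∈
          Finset.univ.filter fun a : (P : Subgroup G) => a ^ p = 1 := by
        simp only [Finset.mem_filter, Finset.mem_univ, true_and]
        refine Subtype.ext ?_
        rw [coe_pow, coe_one]
        exact orderOf_dvd_iff_pow_eq_one.1 hord.dvd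
      rw [← heq, Finset.mem_filter] at hmem
      exact eq_of_le_of_card_ge (zpowers_le.2 hmem.2) (by rw [Nat.card_zpowers, Nat.card_zpowers, hord, hx])
    have hnH : n ∈ normalizer (H : Set G) := by
      have hcz : ∀ a : G, centralizer ({a} : Set G) = centralizer (zpowers a : Set G) := fun a => by
        rw [zpowers_eq_closure, centralizer_closure]
      refine mem_normalizer_iff.2 fun w => ?_
      have e2 : H = centralizer ({n * x * n⁻¹} : Set G) := by rw [hcz, hzz, ← hcz]
      conv_rhs => rw [e2]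
      rw [mem_centralizer_singleton_iff, mem_centralizer_singleton_iff]
      constructor
      · intro e; simp [mul_assoc, ← mul_assoc w x, e]
      · intro e; simpa [mul_assoc] using congrArg (fun v => n⁻¹ * v * n) e
    exact mem_centralizer_singleton_iff.1 (h H hH hnH)

end Cfsg.Agent.Lib.SelfNorm.Basic
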