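import Cfsg.Agent.Lib.SelfNorm.Basic
import Cfsg.Agent.Lib.CASimple67.Basic

/-!
# Self-normalising groups are solvable or simple; the simple ones are CA groups
-/

set_option autoImplicit false
set_option linter.unusedSectionVars false

namespace Cfsg.Agent.Lib.SelfNorm.Main

open Subgroup Cfsg.Agent.Lib.SelfNorm.Basic

universe u

theorem solvHyp_of_forall {G : Type u} [Group G]
    (h : ∀ X : Subgroup G, X ≠ ⊤ → Group.IsSolvable X ∨ IsSimpleGroup X) : SolvHyp G := by
  intro X hX A hAX hAn hA1 hAne
  rcases h X hX with hs | hsimp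
  · exact hs
  · exfalso
    rcases (normal_subgroupOf_of_le_normalizer hAn).eq_bot_or_eq_top with hb | ht
    · exact hA1 (eq_bot_iff.2 fun a ha => by
        have : (⟨a, hAX ha⟩ : X) ∈ A.subgroupOf X := ha
        rw [hb, mem_bot] at this
        exact congrArg Subtype.val this)
    · exact hAne (le_antisymm hAX (subgroupOf_eq_top.1 ht))

theorem le_center_of_forall {G : Type u} [Group G] [Finite G] {M : Subgroup G}
    (h : ∀ p : ℕ, ∀ _ : Fact p.Prime, ∀ P : Sylow p G, ∀ y ∈ (P : Subgroup G), ∀ m ∈ M, y * m = m * y) :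
    M ≤ center G := by
  have hi : (centralizer (M : Set G)).index = 1 := by
    by_contra h1
    obtain ⟨p, hp, hd⟩ := Nat.exists_prime_and_dvd h1
    have := Fact.mk hp
    obtain ⟨P⟩ := (inferInstance : Nonempty (Sylow p G))
    exact P.not_dvd_index (hd.trans (index_dvd_of_le fun y hy =>
      mem_centralizer_iff.2 fun m hm => (h p inferInstance P y hy m hm).symm))
  intro m hm
  refine mem_center_iff.2 fun g => ?_
  exact (mem_centralizer_iff.1 ((index_eq_one.1 hi).symm ▸ mem_top g) m hm).symm

/-- The step: a group all of whose smaller sections are solvable or simple. -/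
theorem step {G : Type u} [Group G] [Finite G] (h : SelfNormalizing G)
    (IH : ∀ (H : Type u) [Group H] [Finite H], Nat.card H < Nat.card G → SelfNormalizing H →
      Group.IsSolvable H ∨ IsSimpleGroup H) : Group.IsSolvable G ∨ IsSimpleGroup G := by
  classical
  by_contra hc
  push Not at hc
  obtain ⟨hns, hsimp⟩ := hc
  have : Nontrivial G := by
    by_contra ht
    rw [not_nontrivial_iff_subsingleton] at ht
    exact hns inferInstance
  have hnc : ¬ CommSub (⊤ : Subgroup G) := fun hc =>
    hns (solvable_of_comm fun a b => hc a (mem_top a) b (mem_top b))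
  obtain ⟨N, hNn, hN1, hNt⟩ : ∃ N : Subgroup G, N.Normal ∧ N ≠ ⊥ ∧ N ≠ ⊤ := by
    by_contra hc
    push Not at hc
    exact hsimp ⟨fun N hN => (em (N = ⊥)).imp id fun h1 => hc N hN h1⟩
  have : Fintype (Subgroup G) := Fintype.ofFinite _
  obtain ⟨M, hM, hMmax⟩ : ∃ M : Subgroup G, (M.Normal ∧ M ≠ ⊤ ∧ M ≠ ⊥) ∧
      ∀ K : Subgroup G, (K.Normal ∧ K ≠ ⊤ ∧ K ≠ ⊥) → Nat.card K ≤ Nat.card M := by
    obtain ⟨M, hM, hm⟩ := Finset.exists_max_image
      (Finset.univ.filter fun K : Subgroup G => K.Normal ∧ K ≠ ⊤ ∧ K ≠ ⊥) (fun K => Nat.card K)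
      ⟨N, by simp [hNn, hN1, hNt]⟩
    exact ⟨M, by simpa using hM, fun K hK => hm K (by simpa using hK)⟩
  obtain ⟨hMn, hMt, hM1⟩ := hM
  have hnormM : ∀ {X : Subgroup G}, X ≤ normalizer (M : Set G) := fun {X} =>
    le_top.trans (normalizer_eq_top (H := M)).ge
  have hMc : CommSub M := comm_of_normalized h le_top hnormM hMt
  have hMs : Group.IsSolvable M := solvable_of_comm fun a b => Subtype.ext (hMc a a.2 b b.2)
  have : Nontrivial (G ⧸ M) := QuotientGroup.nontrivial_iff.2 hMt
  have hQsimp : IsSimpleGroup (G ⧸ M) := ⟨fun K hK => by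
    by_contra hc
    push Not at hc
    have hle : M ≤ K.comap (QuotientGroup.mk' M) := fun m hm => by
      rw [mem_comap, show QuotientGroup.mk' M m = 1 from (QuotientGroup.eq_one_iff m).2 hm]
      exact one_mem K
    have hback := map_comap_eq_self_of_surjective (QuotientGroup.mk'_surjective M) K
    rcases eq_or_ne (K.comap (QuotientGroup.mk' M)) ⊤ with e | e
    · apply hc.2
      rw [← hback, e, map_top_of_surjective _ (QuotientGroup.mk'_surjective M)]
    · have := eq_of_le_of_card_ge hle (hMmax _ ⟨inferInstance, e,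
        fun e' => hM1 (eq_bot_iff.2 (e' ▸ hle))⟩)
      apply hc.1
      rw [← hback, ← this, QuotientGroup.map_mk'_self]⟩
  have hQns : ¬ Group.IsSolvable (G ⧸ M) := fun hs => hns
    (Group.isSolvable_of_ker_le_range M.subtype (QuotientGroup.mk' M)
      (by rw [QuotientGroup.ker_mk', range_subtype]))
  have hQna : ¬ CommSub (⊤ : Subgroup (G ⧸ M)) := fun hc =>
    hQns (solvable_of_comm fun a b => hc a (mem_top a) b (mem_top b))
  have hQlt : Nat.card (G ⧸ M) < Nat.card G := by
    rw [M.card_eq_card_quotient_mul_card_subgroup]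
    exact lt_mul_of_one_lt_right Nat.card_pos (one_lt_card_iff_ne_bot M |>.2 hM1)
  have hQsn := sn_quotient h M
  have hQs : SolvHyp (G ⧸ M) := solvHyp_of_forall fun X hX =>
    IH X (lt_of_le_of_lt (card_le_card_group X) hQlt) (sn_subgroup hQsn X)
  -- every Sylow subgroup is abelian and centralises `M`
  have hkey : ∀ p : ℕ, ∀ _ : Fact p.Prime, ∀ P : Sylow p G,
      CommSub (P : Subgroup G) ∧ ∀ y ∈ (P : Subgroup G), ∀ m ∈ M, y * m = m * y := by
    intro p _ P
    set π := QuotientGroup.mk' M
    by_cases hP : (P : Subgroup G).map π = ⊥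
    · have hPM : (P : Subgroup G) ≤ M := fun y hy =>
        (QuotientGroup.eq_one_iff y).1 (mem_bot.1 (hP ▸ mem_map_of_mem π hy))
      exact ⟨hMc.mono hPM, fun y hy m hm => hMc y (hPM hy) m hm⟩
    let Pb : Sylow p (G ⧸ M) := P.mapSurjective (QuotientGroup.mk'_surjective M)
    have hPb : (Pb : Subgroup (G ⧸ M)) = (P : Subgroup G).map π := Sylow.coe_mapSurjective _ _
    have hPbc := sylow_comm hQsn hQs hQna Pb
    obtain ⟨n, hnN, hnC⟩ : ∃ n ∈ normalizer ((Pb : Subgroup (G ⧸ M)) : Set (G ⧸ M)),
        n ∉ centralizer ((Pb : Subgroup (G ⧸ M)) : Set (G ⧸ M)) := by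
      by_contra hc
      push Not at hc
      obtain ⟨x, hx, hx1⟩ := (bot_or_exists_ne_one (Pb : Subgroup (G ⧸ M))).resolve_left
        (hPb ▸ hP)
      exact not_central hQna Pb hPbc hx hx1 fun n hn =>
        (mem_centralizer_iff.1 (hc n hn) x hx).symm
    obtain ⟨g, rfl⟩ := QuotientGroup.mk'_surjective M n
    set K := (Pb : Subgroup (G ⧸ M)).comap π
    have hKn : (normalizer ((Pb : Subgroup (G ⧸ M)) : Set (G ⧸ M))).comap π ≤ normalizer (K : Set G) := by
      refine le_normalizer_of_conj fun a ha k hk => ?_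
      rw [mem_comap, map_mul, map_mul, map_inv]
      exact (mem_normalizer_iff.1 ha _).1 hk
    have hKc : CommSub K := comm_of_normalized h (comap_mono le_normalizer) hKn fun e => hnC
      (mem_centralizer_iff.2 fun q hq =>
        hPbc q hq _ (show g ∈ K from e ▸ (hnN : g ∈ _)))
    have hPK : (P : Subgroup G) ≤ K := fun y hy => by
      rw [mem_comap, hPb]; exact mem_map_of_mem π hy
    have hMK : M ≤ K := fun m hm => by
      rw [mem_comap, show π m = 1 from (QuotientGroup.eq_one_iff m).2 hm]; exact one_mem _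
    exact ⟨hKc.mono hPK, fun y hy m hm => hKc y (hPK hy) m (hMK hm)⟩
  have hMZ : M ≤ center G := le_center_of_forall fun p hp P y hy m hm => (hkey p hp P).2 y hy m hm
  obtain ⟨p, hp, hpd⟩ := Nat.exists_prime_and_dvd
    (one_lt_card_iff_ne_bot M |>.2 hM1).ne'
  have := Fact.mk hp
  obtain ⟨x, hx⟩ := exists_prime_orderOf_dvd_card' (G := M) p hpd
  have hxG : orderOf (x : G) = p := by rw [orderOf_coe, hx]
  obtain ⟨P, hP⟩ := (IsPGroup.of_card (n := 1) (p := p) (G := zpowers (x : G))
    (by rw [Nat.card_zpowers, hxG, pow_one])).exists_le_sylow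
  obtain ⟨K, hKn, hKt, hab⟩ := exists_ker_of_central P (hkey p inferInstance P).1 (hP (mem_zpowers _))
    (fun e => by rw [e, orderOf_one] at hxG; exact hp.one_lt.ne hxG)
    (fun n _ => mem_center_iff.1 (hMZ x.2) n)
  have hKc : CommSub K := comm_of_normalized h le_top (normalizer_eq_top (H := K)).ge hKt
  have hKs : Group.IsSolvable K := solvable_of_comm fun a b => Subtype.ext (hKc a a.2 b b.2)
  have : Group.IsSolvable (G ⧸ K) := solvable_of_comm fun a b => by
    obtain ⟨a, rfl⟩ := QuotientGroup.mk'_surjective K a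
    obtain ⟨b, rfl⟩ := QuotientGroup.mk'_surjective K b
    rw [← map_mul, ← map_mul]
    refine (QuotientGroup.eq).2 ?_
    simpa [mul_assoc] using hab b⁻¹ a⁻¹
  exact hns (Group.isSolvable_of_ker_le_range K.subtype (QuotientGroup.mk' K)
    (by rw [QuotientGroup.ker_mk', range_subtype]))

theorem solvable_or_simple {G : Type u} [Group G] [Finite G] (h : SelfNormalizing G) :
    Group.IsSolvable G ∨ IsSimpleGroup G := by
  suffices H : ∀ n (H : Type u) [Group H] [Finite H], Nat.card H = n → SelfNormalizing H →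
      Group.IsSolvable H ∨ IsSimpleGroup H from H _ G rfl h
  intro n
  induction n using Nat.strong_induction_on with
  | _ n ih =>
    intro H _ _ hn hsn
    exact step hsn fun K _ _ hK hKsn => ih _ (hn ▸ hK) K rfl hKsn

theorem solvHyp {G : Type u} [Group G] [Finite G] (h : SelfNormalizing G) : SolvHyp G :=
  solvHyp_of_forall fun X _ => solvable_or_simple (sn_subgroup h X)

/-- In a non-abelian simple self-normalising group the centralisers are abelian. -/
theorem centralizer_comm {G : Type u} [Group G] [Finite G] [IsSimpleGroup G]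
    (h : SelfNormalizing G) (hna : ¬ CommSub (⊤ : Subgroup G)) {z : G} (hz : z ≠ 1) :
    CommSub (centralizer ({z} : Set G)) := by
  obtain ⟨p, hp, hd⟩ := Nat.exists_prime_and_dvd (mt orderOf_eq_one_iff.1 hz)
  have := Fact.mk hp
  refine (centralizer_comm_prime h (solvHyp h) hna
    (orderOf_pow_orderOf_div (orderOf_pos z).ne' hd)).mono fun y hy =>
      mem_centralizer_singleton_iff.2 ?_
  exact ((show Commute y z from mem_centralizer_singleton_iff.1 hy).pow_right _).eq

theorem isCT {G : Type u} [Group G] [Finite G] [IsSimpleGroup G]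
    (h : SelfNormalizing G) (hna : ¬ CommSub (⊤ : Subgroup G)) : CASimple67.IsCT G :=
  fun a b c _ hb _ hab hbc => centralizer_comm h hna hb a
    (mem_centralizer_singleton_iff.2 hab) c (mem_centralizer_singleton_iff.2 hbc.symm)

end Cfsg.Agent.Lib.SelfNorm.Main
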